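import Mathlib
import Cfsg.Agent.Lib.Forms.Stab
import Cfsg.Agent.Lib.Forms.Normal

/-!
# The Wall form of an isometry

An isometry `g` of a non-degenerate space is determined by the subspace `(g - 1) V` and the Wall
form on it; this gives a conjugacy criterion and the order of centralisers.
-/

set_option autoImplicit false

namespace CfsgLib.Inv2

open Module CfsgLib.Forms

universe u v

variable {F : Type u} [Field F] {σ : F →+* F} {V : Type v} [AddCommGroup V] [Module F V]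

/-- The moved space `(g - 1) V`. -/
def mov (g : V ≃ₗ[F] V) : Submodule F V := LinearMap.range ((g : V →ₗ[F] V) - LinearMap.id)

theorem mem_mov {g : V ≃ₗ[F] V} {v : V} : v ∈ mov g ↔ ∃ x, g x - x = v := Iff.rfl

theorem sub_mem_mov (g : V ≃ₗ[F] V) (x : V) : g x - x ∈ mov g := ⟨x, rfl⟩

theorem mov_eq_bot_iff {g : V ≃ₗ[F] V} : mov g = ⊥ ↔ g = 1 := by
  constructor
  · intro h
    ext x
    have := sub_mem_mov g x
    rw [h, Submodule.mem_bot, sub_eq_zero] at this
    exact this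
  · rintro rfl
    rw [eq_bot_iff]
    rintro _ ⟨x, rfl⟩
    exact sub_self x

theorem exists_sec (g : V ≃ₗ[F] V) : ∃ r : mov g →ₗ[F] V, ∀ u, g (r u) - r u = u := by
  obtain ⟨r, hr⟩ := ((g : V →ₗ[F] V) - LinearMap.id).rangeRestrict.exists_rightInverse_of_surjective
    (LinearMap.range_rangeRestrict _)
  exact ⟨r, fun u => congrArg Subtype.val (LinearMap.congr_fun hr u)⟩

/-- A linear section of `g - 1`. -/
noncomputable def sec (g : V ≃ₗ[F] V) : mov g →ₗ[F] V := (exists_sec g).choose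

theorem sec_spec (g : V ≃ₗ[F] V) (u : mov g) : g (sec g u) - sec g u = u :=
  (exists_sec g).choose_spec u

theorem map_mov {g g' h : V ≃ₗ[F] V} (hh : h * g = g' * h) :
    (mov g).map h.toLinearMap = mov g' := by
  have key : ∀ x, h (g x) = g' (h x) := fun x => congrArg (fun e : V ≃ₗ[F] V => e x) hh
  ext v
  constructor
  · rintro ⟨_, ⟨x, rfl⟩, rfl⟩
    exact ⟨h x, by simp [key]⟩
  · rintro ⟨x, rfl⟩
    refine ⟨_, sub_mem_mov g (h.symm x), ?_⟩
    simp [key]

theorem finrank_mov_eq {g g' h : V ≃ₗ[F] V} (hh : h * g = g' * h) :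
    finrank F (mov g) = finrank F (mov g') := by
  rw [← map_mov hh, LinearEquiv.finrank_map_eq]

/-- The isometry group of a sesquilinear form. -/
def formIsom {W : Type*} [AddCommGroup W] [Module F W] (χ : W →ₛₗ[σ] W →ₗ[F] F) :
    Subgroup (W ≃ₗ[F] W) where
  carrier := {φ | ∀ x y, χ (φ x) (φ y) = χ x y}
  mul_mem' {a b} ha hb x y := (ha _ _).trans (hb x y)
  one_mem' _ _ := rfl
  inv_mem' {a} ha x y := by
    rw [← ha]
    change χ (a (a.symm x)) (a (a.symm y)) = _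
    simp

theorem mem_formIsom {W : Type*} [AddCommGroup W] [Module F W] {χ : W →ₛₗ[σ] W →ₗ[F] F}
    {φ : W ≃ₗ[F] W} : φ ∈ formIsom χ ↔ ∀ x y, χ (φ x) (φ y) = χ x y := Iff.rfl

variable (P : PQ σ V)

/-- The Wall form of `g` on `(g - 1) V`. -/
noncomputable def wall (g : V ≃ₗ[F] V) : mov g →ₛₗ[σ] mov g →ₗ[F] F :=
  (P.B.comp (sec g)).compl₂ (mov g).subtype

theorem wall_apply (g : V ≃ₗ[F] V) (u u' : mov g) : wall P g u u' = P.B (sec g u) u' := rfl

variable {P} {g g' : V ≃ₗ[F] V}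

theorem B_fix_mov (hg : P.IsIso g) {z u : V} (hz : g z = z) (hu : u ∈ mov g) : P.B z u = 0 := by
  obtain ⟨x, rfl⟩ := mem_mov.1 hu
  rw [P.B_sub_right, ← hg.B_eq z x, hz, sub_self]

theorem mem_perp_mov (hP : P.Nondeg) (hg : P.IsIso g) {v : V} :
    v ∈ P.perp (mov g) ↔ g v = v := by
  refine ⟨fun h => ?_, fun h => P.mem_perp'.2 fun u hu => B_fix_mov hg h hu⟩
  refine sub_eq_zero.1 (hP.right _ fun y => ?_)
  obtain ⟨x, rfl⟩ := g.surjective y
  have := h _ (sub_mem_mov g x)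
  rw [P.B_sub_left] at this
  rw [P.B_sub_right, hg.B_eq]
  linear_combination -this

theorem wall_eq (hg : P.IsIso g) {x : V} {u : mov g} (h : g x - x = u) (u' : mov g) :
    wall P g u u' = P.B x u' := by
  have : g (sec g u - x) = sec g u - x := by
    rw [map_sub, sub_eq_sub_iff_sub_eq_sub, sec_spec, h]
  have h2 := B_fix_mov hg this u'.2
  rw [P.B_sub_left] at h2
  exact sub_eq_zero.1 h2

theorem wall_nondeg (hP : P.Nondeg) (hg : P.IsIso g) (u : mov g) (h : ∀ u', wall P g u u' = 0) :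
    u = 0 := by
  have := (mem_perp_mov hP hg).1 (P.mem_perp'.2 fun w hw => h ⟨w, hw⟩)
  exact Subtype.ext ((sec_spec g u).symm.trans (sub_eq_zero.2 this))

theorem B_mov (hg : P.IsIso g) (u u' : mov g) :
    P.B u u' = -wall P g u u' - P.ε * σ (wall P g u' u) := by
  rw [wall_apply, wall_apply, ← P.symm]
  have h1 := sec_spec g u
  have h2 := sec_spec g u'
  generalize sec g u = x at h1 ⊢
  generalize sec g u' = y at h2 ⊢
  rw [← h1, ← h2]
  simp only [P.B_sub_left, P.B_sub_right, hg.B_eq]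
  ring

theorem N_mov (hg : P.IsIso g) (u : mov g) : P.N u + wall P g u u ∈ P.Λ := by
  rw [wall_apply]
  have h1 := P.N_add (sec g u) u
  have h2 := hg.N_eq (sec g u)
  rw [← eq_sub_iff_add_eq'.1 (sec_spec g u).symm] at h2
  convert P.Λ.sub_mem h2 h1 using 1
  ring

theorem mul_eq_of_wall (hP : P.Nondeg) (hg : P.IsIso g) (hg' : P.IsIso g') {h : V ≃ₗ[F] V}
    (hh : P.IsIso h) (φ : mov g ≃ₗ[F] mov g')
    (hφ : ∀ u u', wall P g' (φ u) (φ u') = wall P g u u') (hhφ : ∀ u : mov g, h u = φ u) :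
    h * g = g' * h := by
  ext x
  let u : mov g := ⟨g x - x, sub_mem_mov g x⟩
  have h1 : h x - sec g' (φ u) ∈ P.perp (mov g') := P.mem_perp'.2 fun w hw => by
    obtain ⟨u', hu'⟩ := φ.surjective ⟨w, hw⟩
    have : w = φ u' := by rw [hu']
    rw [this, P.B_sub_left, ← wall_apply, hφ, ← hhφ, hh.B_eq, wall_eq hg (u := u) rfl, sub_self]
  rw [mem_perp_mov hP hg', map_sub, sub_eq_sub_iff_sub_eq_sub, sec_spec, ← hhφ, map_sub] at h1
  exact (sub_left_inj.1 h1).symm

theorem exists_conj_of_wall [FiniteDimensional F V] (hP : P.Nondeg) (hg : P.IsIso g)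
    (hg' : P.IsIso g') (φ : mov g ≃ₗ[F] mov g')
    (hφ : ∀ u u', wall P g' (φ u) (φ u') = wall P g u u') :
    ∃ h : V ≃ₗ[F] V, P.IsIso h ∧ (∀ u : mov g, h u = φ u) ∧ h * g = g' * h := by
  obtain ⟨h, hh, hhφ⟩ := P.witt hP (mov g) ((mov g').subtype ∘ₗ φ.toLinearMap)
    ((mov g').injective_subtype.comp φ.injective)
    (fun x y => by
      change P.B (φ x) (φ y) = _
      rw [B_mov hg', B_mov hg, hφ, hφ])
    (fun x => by
      change P.N (φ x) - _ ∈ _
      have h1 := N_mov hg' (φ x)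
      rw [hφ] at h1
      convert P.Λ.sub_mem h1 (N_mov hg x) using 1
      ring)
  exact ⟨h, hh, hhφ, mul_eq_of_wall hP hg hg' hh φ hφ hhφ⟩

theorem wall_conj (hg' : P.IsIso g') {h : V ≃ₗ[F] V} (hh : P.IsIso h) (hhg : h * g = g' * h)
    {u u' : mov g} {w w' : mov g'} (hw : h u = w) (hw' : h u' = w') :
    wall P g' w w' = wall P g u u' := by
  have key : ∀ x, h (g x) = g' (h x) := fun x => congrArg (fun e : V ≃ₗ[F] V => e x) hhg
  rw [wall_eq hg' (x := h (sec g u)) (by rw [← key, ← map_sub, sec_spec, hw]), ← hw', hh.B_eq,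
    wall_apply]

/-- Conjugacy criterion. -/
theorem isConj_iff_wall [FiniteDimensional F V] (hP : P.Nondeg) (g g' : P.isom) :
    IsConj g g' ↔ ∃ φ : mov g.1 ≃ₗ[F] mov g'.1,
      ∀ u u', wall P g'.1 (φ u) (φ u') = wall P g.1 u u' := by
  constructor
  · rintro ⟨h, hh⟩
    have hh' : h.1.1 * g.1 = g'.1 * h.1.1 := congrArg Subtype.val hh
    exact ⟨LinearEquiv.ofSubmodules h.1.1 _ _ (map_mov hh'),
      fun u u' => wall_conj g'.2 h.1.2 hh' rfl rfl⟩
  · rintro ⟨φ, hφ⟩
    obtain ⟨h, hh, -, h2⟩ := exists_conj_of_wall hP g.2 g'.2 φ hφ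
    exact isConj_iff.2 ⟨⟨h, hh⟩, mul_inv_eq_iff_eq_mul.2 (Subtype.ext h2)⟩

theorem card_centralizer_subtype {G : Type*} [Group G] (H : Subgroup G) (g : H) :
    Nat.card (Subgroup.centralizer ({g} : Set H))
      = Nat.card ↥(H ⊓ Subgroup.centralizer ({g.1} : Set G)) := by
  refine Nat.card_congr ⟨fun x => ⟨x.1.1, x.1.2, ?_⟩, fun x => ⟨⟨x.1, x.2.1⟩, ?_⟩, fun _ => rfl,
    fun _ => rfl⟩
  · exact Subgroup.mem_centralizer_singleton_iff.2
      (congrArg Subtype.val (Subgroup.mem_centralizer_singleton_iff.1 x.2))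
  · exact Subgroup.mem_centralizer_singleton_iff.2
      (Subtype.ext (Subgroup.mem_centralizer_singleton_iff.1 x.2.2))

/-- The order of the centraliser of an isometry. -/
theorem card_centralizer [FiniteDimensional F V] (hP : P.Nondeg) (g : P.isom) :
    Nat.card (Subgroup.centralizer ({g} : Set P.isom))
      = Nat.card (formIsom (wall P g.1)) * Nat.card ↥(P.isom ⊓ linFix (mov g.1)) := by
  have hS : Subgroup.centralizer ({g.1} : Set (V ≃ₗ[F] V)) ≤ linStab (mov g.1) := fun h hh =>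
    mem_linStab_iff_map.2 (map_mov (Subgroup.mem_centralizer_singleton_iff.1 hh))
  rw [card_centralizer_subtype, card_inf_linStab P.isom (mov g.1) _ hS fun h hh =>
    Subgroup.mem_centralizer_singleton_iff.2 (mul_eq_of_wall hP g.2 g.2 hh.1 (LinearEquiv.refl _ _)
      (fun _ _ => rfl) fun u => hh.2 u u.2)]
  congr 3
  ext φ
  constructor
  · rintro ⟨h, rfl⟩ u u'
    exact wall_conj g.2 h.2.1 (Subgroup.mem_centralizer_singleton_iff.1 h.2.2) rfl rfl
  · intro hφ
    obtain ⟨h, hh, h1, h2⟩ := exists_conj_of_wall hP g.2 g.2 φ hφ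
    exact ⟨⟨h, hh, Subgroup.mem_centralizer_singleton_iff.2 h2⟩,
      LinearEquiv.ext fun u => Subtype.ext (h1 u)⟩

/-- Existence of an isometry with prescribed Wall form. -/
theorem exists_of_wall [FiniteDimensional F V] {P : PQ (RingHom.id F) V} (hP : P.Nondeg)
    (U : Submodule F V) (χ : LinearMap.BilinForm F U) (hχ : ∀ u, (∀ u', χ u u' = 0) → u = 0)
    (hB : ∀ u u' : U, P.B u u' = -χ u u' - P.ε * χ u' u) (hN : ∀ u : U, P.N u + χ u u ∈ P.Λ) :
    ∃ g : V ≃ₗ[F] V, P.IsIso g ∧ mov g = U ∧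
      ∀ x, ∃ u : U, g x - x = u ∧ ∀ u' : U, χ u u' = P.B x u' := by
  have hinj : Function.Injective χ := by
    rw [← LinearMap.ker_eq_bot, LinearMap.ker_eq_bot']
    exact fun u hu => hχ u fun u' => LinearMap.congr_fun hu u'
  let e : U ≃ₗ[F] Module.Dual F U :=
    LinearMap.linearEquivOfInjective χ hinj (Subspace.dual_finrank_eq).symm
  let B : V →ₗ[F] V →ₗ[F] F := P.B
  let n : V →ₗ[F] U := e.symm.toLinearMap ∘ₗ B.compl₂ U.subtype
  have hn : ∀ x (u' : U), χ (n x) u' = P.B x u' := fun x u' =>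
    LinearMap.congr_fun (e.apply_symm_apply (B.compl₂ U.subtype x)) u'
  let t : V →ₗ[F] V := LinearMap.id + U.subtype ∘ₗ n
  have ht : ∀ x, t x = x + n x := fun _ => rfl
  have hiso : P.IsIso t := by
    refine ⟨fun x y => ?_, fun x => ?_⟩
    · rw [ht, ht, P.B_add_left, P.B_add_right, P.B_add_right, hB, P.symm y (n x), ← hn, ← hn]
      simp only [RingHom.id_apply]
      ring
    · have h1 := P.N_add x (n x)
      rw [← hn] at h1
      rw [ht]
      convert P.Λ.add_mem h1 (hN (n x)) using 1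
      ring
  have h1 : ∀ x, hiso.toEquiv hP x - x = n x := fun x => by
    rw [hiso.toEquiv_apply, ht, add_sub_cancel_left]
  refine ⟨hiso.toEquiv hP, hiso.toEquiv_isIso hP, le_antisymm ?_ fun u hu => ?_,
    fun x => ⟨n x, h1 x, hn x⟩⟩
  · intro v hv
    obtain ⟨x, rfl⟩ := mem_mov.1 hv
    rw [h1]; exact (n x).2
  · obtain ⟨f, hf⟩ := LinearMap.exists_extend (χ ⟨u, hu⟩)
    obtain ⟨x, hx⟩ := P.exists_B_eq hP f
    refine ⟨x, (h1 x).trans (congrArg Subtype.val (hinj (LinearMap.ext fun u' => ?_) :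
      n x = ⟨u, hu⟩))⟩
    rw [hn, hx, ← hf]; rfl

end CfsgLib.Inv2
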