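import Mathlib
import Cfsg.Agent.Lib.Inv2.Wall
import Cfsg.Agent.Lib.Symp.Order

/-!
# Non-degenerate symmetric bilinear forms over finite fields of characteristic two
-/

set_option autoImplicit false

namespace CfsgLib.Inv2

open Module CfsgLib.Forms LinearMap

universe u v w

variable {F : Type u} [Field F] {W : Type v} [AddCommGroup W] [Module F W]
  {W' : Type w} [AddCommGroup W'] [Module F W']

/-- The order of `Sp_{2k}(q)`. -/
def spOrd (q k : ℕ) : ℕ := q ^ (k ^ 2) * ∏ i ∈ Finset.range k, (q ^ (2 * (i + 1)) - 1)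

theorem spOrd_eq (q k : ℕ) :
    spOrd q k = q ^ (k ^ 2) * ∏ i : Fin k, (q ^ (2 * ((i : ℕ) + 1)) - 1) := by
  rw [spOrd, Finset.prod_range]

theorem card_isom_of_top [Finite F] [FiniteDimensional F W] (P : PQ (RingHom.id F) W)
    (hP : P.Nondeg) (hΛ : P.Λ = ⊤) {k : ℕ} (hk : finrank F W = 2 * k) :
    Nat.card P.isom = spOrd (Nat.card F) k := by
  have := Fintype.ofFinite F
  obtain ⟨e, he⟩ := P.exists_isIso₂_spPQ hP hΛ hk
  rw [Nat.card_congr (PQ.isomCongr he).toEquiv, ← Nat.card_congr (spEquiv (Fin k) F).toEquiv,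
    CfsgLib.Symp.card_sp, Nat.card_eq_fintype_card, spOrd]

theorem nondegenerate_of_isAlt {A : LinearMap.BilinForm F W} (hA : A.IsAlt)
    (h : ∀ x, (∀ y, A x y = 0) → x = 0) : A.Nondegenerate :=
  ⟨h, fun y hy => h y fun x => hA.isRefl _ _ (hy x)⟩

theorem formIsom_eq_isom {A : LinearMap.BilinForm F W} (hA : A.IsAlt) :
    formIsom A = (ofAlt A hA).isom :=
  Subgroup.ext fun g => (ofAlt_isIso A hA g).symm

theorem card_formIsom_of_isAlt [Finite F] [FiniteDimensional F W] {A : LinearMap.BilinForm F W}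
    (hA : A.IsAlt) (h : ∀ x, (∀ y, A x y = 0) → x = 0) {k : ℕ} (hk : finrank F W = 2 * k) :
    Nat.card (formIsom A) = spOrd (Nat.card F) k := by
  rw [formIsom_eq_isom hA]
  exact card_isom_of_top (ofAlt A hA) h rfl hk

theorem exists_equiv_of_isAlt [FiniteDimensional F W] [FiniteDimensional F W']
    {A : LinearMap.BilinForm F W} {A' : LinearMap.BilinForm F W'} (hA : A.IsAlt) (hA' : A'.IsAlt)
    (h : ∀ x, (∀ y, A x y = 0) → x = 0) (h' : ∀ x, (∀ y, A' x y = 0) → x = 0)
    (hd : finrank F W = finrank F W') :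
    ∃ φ : W ≃ₗ[F] W', ∀ x y, A' (φ x) (φ y) = A x y := by
  obtain ⟨k, hk⟩ := even_finrank_of_alt A hA (nondegenerate_of_isAlt hA h)
  obtain ⟨e, he⟩ := exists_isIso₂_spPQ A hA (nondegenerate_of_isAlt hA h) (m := k) (by omega)
  obtain ⟨e', he'⟩ := exists_isIso₂_spPQ A' hA' (nondegenerate_of_isAlt hA' h') (m := k) (by omega)
  exact ⟨e.trans e'.symm, fun x y => (he'.symm.B_eq _ _).trans (he.B_eq x y)⟩

theorem exists_isAlt [FiniteDimensional F W] (h : Even (finrank F W)) :
    ∃ A : LinearMap.BilinForm F W, A.IsAlt ∧ ∀ x, (∀ y, A x y = 0) → x = 0 := by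
  obtain ⟨k, hk⟩ := h
  obtain ⟨e⟩ : Nonempty (W ≃ₗ[F] (Fin k ⊕ Fin k → F)) :=
    FiniteDimensional.nonempty_linearEquiv_of_finrank_eq (by simp [hk])
  refine ⟨(spB (Fin k) F).compl₁₂ e e, fun x => spB_isAlt (Fin k) F (e x), fun x hx => ?_⟩
  refine e.map_eq_zero_iff.1 ((spB_nondegenerate (Fin k) F).1 _ fun y => ?_)
  simpa using hx (e.symm y)

theorem exists_rep [FiniteDimensional F W] {χ : LinearMap.BilinForm F W}
    (h : ∀ x, (∀ y, χ x y = 0) → x = 0) (f : Module.Dual F W) : ∃ w, χ w = f := by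
  have hinj : Function.Injective χ := by
    rw [← LinearMap.ker_eq_bot, LinearMap.ker_eq_bot']
    exact fun u hu => h u fun u' => LinearMap.congr_fun hu u'
  exact (LinearMap.injective_iff_surjective_of_finrank_eq_finrank
    (Subspace.dual_finrank_eq).symm).1 hinj f

theorem finrank_ker_add_one [FiniteDimensional F W] {f : Module.Dual F W} (hf : f ≠ 0) :
    finrank F (ker f) + 1 = finrank F W := by
  have h1 := LinearMap.finrank_range_add_finrank_ker f
  rw [LinearMap.range_eq_top.2 (LinearMap.surjective hf), finrank_top, finrank_self] at h1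
  omega

/-- Extension of an isometry between the complements of two vectors of norm one. -/
theorem exists_extend_one [FiniteDimensional F W] [FiniteDimensional F W']
    {χ : LinearMap.BilinForm F W} {χ' : LinearMap.BilinForm F W'} (hS : ∀ x y, χ x y = χ y x)
    (hS' : ∀ x y, χ' x y = χ' y x) (h : ∀ x, (∀ y, χ x y = 0) → x = 0)
    (hd : finrank F W = finrank F W') {w : W} {w' : W'} (hw : χ w w = 1) (hw' : χ' w' w' = 1)
    (e : ker (χ w) →ₗ[F] ker (χ' w')) (he : ∀ x y, χ' (e x) (e y) = χ x y) :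
    ∃ φ : W ≃ₗ[F] W', (∀ x y, χ' (φ x) (φ y) = χ x y) ∧ ∀ x : ker (χ w), φ x = e x := by
  let π : W →ₗ[F] ker (χ w) := (LinearMap.id - (χ w).smulRight w).codRestrict _
    fun x => by simp [hw]
  have hπ : ∀ x, (π x : W) = x - χ w x • w := fun _ => rfl
  let f : W →ₗ[F] W' := (χ w).smulRight w' + (ker (χ' w')).subtype ∘ₗ e ∘ₗ π
  have hf : ∀ x, f x = χ w x • w' + e (π x) := fun _ => rfl
  have hiso : ∀ x y, χ' (f x) (f y) = χ x y := fun x y => by
    have h1 : χ' w' (e (π y)) = 0 := (e (π y)).2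
    have h2 : χ' (e (π x)) w' = 0 := (hS' _ _).trans (e (π x)).2
    simp only [hf, map_add, map_smul, LinearMap.add_apply, LinearMap.smul_apply, h1, h2, he, hπ,
      map_sub, LinearMap.sub_apply, hw, hw', smul_eq_mul, hS x w]
    ring
  have hinj : Function.Injective f := by
    rw [← LinearMap.ker_eq_bot, LinearMap.ker_eq_bot']
    exact fun x hx => h x fun y => by rw [← hiso, hx]; simp
  refine ⟨LinearMap.linearEquivOfInjective f hinj hd, hiso, fun x => ?_⟩
  have h0 : χ w x = 0 := x.2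
  have : π x = x := Subtype.ext (by rw [hπ, h0, zero_smul, sub_zero])
  rw [LinearMap.linearEquivOfInjective_apply, hf, h0, this, zero_smul, zero_add]

theorem restrict_ker_nondeg {χ : LinearMap.BilinForm F W} (hS : ∀ x y, χ x y = χ y x)
    (h : ∀ x, (∀ y, χ x y = 0) → x = 0) {w : W} (hw : χ w w = 1) (x : ker (χ w))
    (hx : ∀ y, χ.restrict (ker (χ w)) x y = 0) : x = 0 := by
  refine Subtype.ext (h _ fun y => ?_)
  have h1 : χ x w = 0 := (hS _ _).trans x.2
  have h2 : χ x (y - χ w y • w) = 0 := hx ⟨y - χ w y • w, by simp [hw]⟩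
  simpa [h1] using h2

variable [CharP F 2]

/-- The alternating form attached to a symmetric form and its characteristic vector. -/
def altOf (χ : LinearMap.BilinForm F W) (f : Module.Dual F W) : LinearMap.BilinForm F W :=
  χ + LinearMap.BilinForm.linMulLin f f

omit [CharP F 2] in
theorem altOf_apply (χ : LinearMap.BilinForm F W) (f : Module.Dual F W) (x y : W) :
    altOf χ f x y = χ x y + f x * f y := rfl

theorem altOf_isAlt {χ : LinearMap.BilinForm F W} {f : Module.Dual F W}
    (hf : ∀ x, χ x x = f x ^ 2) : (altOf χ f).IsAlt := fun x => by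
  rw [altOf_apply, hf, ← pow_two, CharTwo.add_self_eq_zero]

omit [CharP F 2] in
theorem altOf_nondeg {χ : LinearMap.BilinForm F W} (h : ∀ x, (∀ y, χ x y = 0) → x = 0) {w : W}
    (hw : χ w w = 0) (x : W) (hx : ∀ y, altOf χ (χ w) x y = 0) : x = 0 := by
  have h1 : x + χ w x • w = 0 := h _ fun y => by simpa [altOf_apply] using hx y
  have h2 := congrArg (χ w) h1
  simp only [map_add, map_smul, hw, smul_zero, add_zero, map_zero] at h2
  simpa [h2] using h1

theorem symm_of_isAlt {A : LinearMap.BilinForm F W} (hA : A.IsAlt) (x y : W) : A x y = A y x := by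
  rw [← hA.neg_eq, CharTwo.neg_eq]

/-- A symmetric non-degenerate form with prescribed non-zero diagonal. -/
theorem exists_symm_of_functional [FiniteDimensional F W] (f : Module.Dual F W) (hf : f ≠ 0) :
    ∃ χ : LinearMap.BilinForm F W, (∀ x y, χ x y = χ y x) ∧ (∀ x, (∀ y, χ x y = 0) → x = 0) ∧
      ∀ x, χ x x = f x ^ 2 := by
  rcases Nat.even_or_odd (finrank F W) with h | h
  · obtain ⟨A, hA, hA'⟩ := exists_isAlt h
    obtain ⟨w, rfl⟩ := exists_rep hA' f
    exact ⟨altOf A (A w), fun x y => by rw [altOf_apply, altOf_apply, symm_of_isAlt hA, mul_comm],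
      altOf_nondeg hA' (hA w), fun x => by rw [altOf_apply, hA x, zero_add, pow_two]⟩
  · have h1 := finrank_ker_add_one hf
    obtain ⟨A, hA, hA'⟩ := exists_isAlt (W := ker f) (by
      rw [← h1, Nat.odd_add_one, Nat.not_odd_iff_even] at h; exact h)
    obtain ⟨w, hw⟩ := LinearMap.surjective hf 1
    let π : W →ₗ[F] ker f := (LinearMap.id - f.smulRight w).codRestrict _ fun x => by simp [hw]
    have hπ : ∀ x, (π x : W) = x - f x • w := fun _ => rfl
    have hπw : π w = 0 := Subtype.ext (by simp [hπ, hw])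
    have hπx : ∀ x : ker f, π x = x := fun x => Subtype.ext (by
      rw [hπ, show f x = 0 from x.2, zero_smul, sub_zero])
    have key : ∀ x y, altOf (A.compl₁₂ π π) f x y = A (π x) (π y) + f x * f y := fun _ _ => rfl
    refine ⟨altOf (A.compl₁₂ π π) f, fun x y => by rw [key, key, symm_of_isAlt hA, mul_comm],
      fun x hx => ?_, fun x => by rw [key, hA, zero_add, pow_two]⟩
    have h2 : f x = 0 := by simpa [key, hπw, hw] using hx w
    have h3 : π x = 0 := hA' _ fun y => by simpa [key, hπx, h2] using hx y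
    rw [hπx ⟨x, h2⟩] at h3
    exact congrArg Subtype.val h3

variable [Finite F]

theorem exists_sqrt_functional (f : W → F) (h1 : ∀ x y, f (x + y) = f x + f y)
    (h2 : ∀ (c : F) x, f (c • x) = c ^ 2 * f x) :
    ∃ g : Module.Dual F W, ∀ x, f x = g x ^ 2 :=
  ⟨{ toFun := fun x => (frobeniusEquiv F 2).symm (f x)
     map_add' := fun x y => by rw [h1, map_add]
     map_smul' := fun c x => (frobeniusEquiv F 2).injective (by
      rw [RingHom.id_apply, smul_eq_mul, map_mul, RingEquiv.apply_symm_apply,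
        RingEquiv.apply_symm_apply, h2, frobeniusEquiv_def]) },
    fun x => ((frobeniusEquiv F 2).apply_symm_apply _).symm⟩

theorem exists_charVec [FiniteDimensional F W] {χ : LinearMap.BilinForm F W}
    (hS : ∀ x y, χ x y = χ y x) (h : ∀ x, (∀ y, χ x y = 0) → x = 0) :
    ∃ w, (∀ x, χ x x = χ w x ^ 2) ∧ (χ w w = 0 ∨ χ w w = 1) := by
  obtain ⟨g, hg⟩ := exists_sqrt_functional (fun x => χ x x)
    (fun x y => by
      simp only [map_add, LinearMap.add_apply, hS y x]
      linear_combination χ x y * CharTwo.two_eq_zero (R := F))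
    (fun c x => by simp only [map_smul, LinearMap.smul_apply, smul_eq_mul]; ring)
  obtain ⟨w, rfl⟩ := exists_rep h g
  refine ⟨w, hg, ?_⟩
  have h1 : χ w w * (χ w w - 1) = 0 := by linear_combination -hg w
  exact (mul_eq_zero.1 h1).imp_right sub_eq_zero.1

omit [Finite F] in
theorem even_of_charVec [FiniteDimensional F W] {χ : LinearMap.BilinForm F W}
    (h : ∀ x, (∀ y, χ x y = 0) → x = 0) {w : W} (hw : ∀ x, χ x x = χ w x ^ 2) (h0 : χ w w = 0) :
    Even (finrank F W) :=
  even_finrank_of_alt _ (altOf_isAlt hw) (nondegenerate_of_isAlt (altOf_isAlt hw) (altOf_nondeg h h0))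

omit [Finite F] [CharP F 2] in
theorem restrict_ker_isAlt {χ : LinearMap.BilinForm F W} {w : W} (hw : ∀ x, χ x x = χ w x ^ 2) :
    (χ.restrict (ker (χ w))).IsAlt := fun x => by
  have : χ w x = 0 := x.2
  rw [LinearMap.BilinForm.restrict_apply, LinearMap.domRestrict_apply, hw, this]; simp

omit [Finite F] [CharP F 2] in
theorem odd_of_charVec [FiniteDimensional F W] {χ : LinearMap.BilinForm F W}
    (hS : ∀ x y, χ x y = χ y x) (h : ∀ x, (∀ y, χ x y = 0) → x = 0) {w : W}
    (hw : ∀ x, χ x x = χ w x ^ 2) (h1 : χ w w = 1) : Odd (finrank F W) := by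
  rw [← finrank_ker_add_one (f := χ w) fun h0 => by simp [h0] at h1]
  exact (even_finrank_of_alt _ (restrict_ker_isAlt hw)
    (nondegenerate_of_isAlt (restrict_ker_isAlt hw) (restrict_ker_nondeg hS h h1))).add_one

/-- Classification of non-degenerate symmetric forms in characteristic two. -/
theorem exists_equiv_of_symm [FiniteDimensional F W] [FiniteDimensional F W']
    {χ : LinearMap.BilinForm F W} {χ' : LinearMap.BilinForm F W'} (hS : ∀ x y, χ x y = χ y x)
    (hS' : ∀ x y, χ' x y = χ' y x) (h : ∀ x, (∀ y, χ x y = 0) → x = 0)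
    (h' : ∀ x, (∀ y, χ' x y = 0) → x = 0) (hd : finrank F W = finrank F W')
    (hA : (∀ x, χ x x = 0) ↔ ∀ x, χ' x x = 0) :
    ∃ φ : W ≃ₗ[F] W', ∀ x y, χ' (φ x) (φ y) = χ x y := by
  by_cases ha : ∀ x, χ x x = 0
  · exact exists_equiv_of_isAlt ha (hA.1 ha) h h' hd
  obtain ⟨w, hw, h0 | h1⟩ := exists_charVec hS h <;>
    obtain ⟨w', hw', h0' | h1'⟩ := exists_charVec hS' h'
  · obtain ⟨e, he⟩ := exists_equiv_of_isAlt (altOf_isAlt hw) (altOf_isAlt hw') (altOf_nondeg h h0)
      (altOf_nondeg h' h0') hd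
    have hw0 : w ≠ 0 := by rintro rfl; exact ha fun x => by simp [hw x]
    have hw0' : w' ≠ 0 := by rintro rfl; exact ha (hA.2 fun x => by simp [hw' x])
    obtain ⟨g, hg, -, hgw⟩ := (ofAlt _ (altOf_isAlt hw')).witt_step (altOf_nondeg h' h0') ⊥
      (u := e w) (u' := w') (by simpa using hw0) (by simpa using hw0') (by simp) trivial
    have key : ∀ x y, altOf χ' (χ' w') (g (e x)) (g (e y)) = altOf χ (χ w) x y :=
      fun x y => (hg.B_eq _ _).trans (he x y)
    have key2 : ∀ x, χ' w' (g (e x)) = χ w x := fun x => by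
      have := key w x
      rwa [hgw, altOf_apply, altOf_apply, h0, h0', zero_mul, zero_mul, add_zero, add_zero] at this
    refine ⟨e.trans g, fun x y => ?_⟩
    have := key x y
    rwa [altOf_apply, altOf_apply, key2, key2, add_left_inj] at this
  · exact absurd (hd ▸ even_of_charVec h hw h0) (Nat.not_even_iff_odd.2 (odd_of_charVec hS' h' hw' h1'))
  · exact absurd (hd ▸ even_of_charVec h' hw' h0') (Nat.not_even_iff_odd.2 (odd_of_charVec hS h hw h1))
  · have d1 := finrank_ker_add_one (f := χ w) fun h0 => by simp [h0] at h1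
    have d2 := finrank_ker_add_one (f := χ' w') fun h0 => by simp [h0] at h1'
    obtain ⟨e, he⟩ := exists_equiv_of_isAlt (restrict_ker_isAlt hw) (restrict_ker_isAlt hw')
      (restrict_ker_nondeg hS h h1) (restrict_ker_nondeg hS' h' h1') (by omega)
    obtain ⟨φ, hφ, -⟩ := exists_extend_one hS hS' h hd h1 h1' e.toLinearMap he
    exact ⟨φ, hφ⟩

omit [Finite F] in
theorem charVec_fixed {χ : LinearMap.BilinForm F W} (h : ∀ x, (∀ y, χ x y = 0) → x = 0) {w : W}
    (hw : ∀ x, χ x x = χ w x ^ 2) {g : W ≃ₗ[F] W} (hg : g ∈ formIsom χ) : g w = w := by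
  refine sub_eq_zero.1 (h _ fun y => ?_)
  obtain ⟨x, rfl⟩ := g.surjective y
  have h1 : χ w (g x) = χ w x := frobenius_inj F 2 (by
    rw [_root_.frobenius_def, _root_.frobenius_def, ← hw, ← hw, hg])
  rw [map_sub, LinearMap.sub_apply, hg, h1, sub_self]

theorem card_formIsom_of_odd [FiniteDimensional F W] {χ : LinearMap.BilinForm F W}
    (hS : ∀ x y, χ x y = χ y x) (h : ∀ x, (∀ y, χ x y = 0) → x = 0) {k : ℕ}
    (hk : finrank F W = 2 * k + 1) : Nat.card (formIsom χ) = spOrd (Nat.card F) k := by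
  obtain ⟨w, hw, h0 | h1⟩ := exists_charVec hS h
  · have := even_of_charVec h hw h0
    rw [hk] at this
    exact absurd this (by simp)
  have d1 := finrank_ker_add_one (f := χ w) fun h0 => by simp [h0] at h1
  have hle : formIsom χ ≤ linStab (ker (χ w)) := fun g hg => mem_linStab_of_le fun v hv => by
    rw [mem_ker, ← charVec_fixed h hw hg, hg]; exact hv
  have h2 := card_inf_linStab (formIsom χ) (ker (χ w)) (linStab _) le_rfl
    (inf_le_right.trans (linFix_le_linStab _))
  have h3 : formIsom χ ⊓ linFix (ker (χ w)) = ⊥ := by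
    rw [eq_bot_iff]
    intro g hg
    refine Subgroup.mem_bot.2 (LinearEquiv.ext fun x => ?_)
    have := hg.2 (x - χ w x • w) (by simp [h1])
    rw [map_sub, map_smul, charVec_fixed h hw hg.1, sub_left_inj] at this
    exact this
  rw [h3, Subgroup.card_bot, mul_one] at h2
  rw [← card_formIsom_of_isAlt (restrict_ker_isAlt hw) (restrict_ker_nondeg hS h h1) (k := k)
    (by omega), ← Nat.card_congr (MulEquiv.subgroupCongr (inf_eq_left.2 hle)).toEquiv, h2]
  congr 2
  ext φ
  constructor
  · rintro ⟨g, rfl⟩ x y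
    exact g.2.1 x y
  · intro hφ
    obtain ⟨g, hg, hg'⟩ := exists_extend_one hS hS h rfl h1 h1 φ.toLinearMap hφ
    exact ⟨⟨g, hg, hle hg⟩, LinearEquiv.ext fun u => Subtype.ext (hg' u)⟩

theorem card_formIsom_of_even [FiniteDimensional F W] {χ : LinearMap.BilinForm F W}
    (hS : ∀ x y, χ x y = χ y x) (h : ∀ x, (∀ y, χ x y = 0) → x = 0) (ha : ¬ ∀ x, χ x x = 0)
    {k : ℕ} (hk : finrank F W = 2 * k + 2) :
    Nat.card (formIsom χ) = Nat.card F ^ (2 * k + 1) * spOrd (Nat.card F) k := by
  obtain ⟨w, hw, h0 | h1⟩ := exists_charVec hS h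
  swap
  · have := odd_of_charVec hS h hw h1
    rw [hk] at this
    exact absurd this (by simp [parity_simps])
  have hw0 : w ≠ 0 := by rintro rfl; exact ha fun x => by simp [hw x]
  let P := ofAlt _ (altOf_isAlt hw)
  have hP : P.Nondeg := altOf_nondeg h h0
  have h1 : formIsom χ = P.isom ⊓ linFix (Submodule.span F {w}) := by
    ext g
    rw [Subgroup.mem_inf, mem_linFix_span, PQ.mem_isom, ofAlt_isIso]
    simp only [Set.mem_singleton_iff, forall_eq, altOf_apply]
    constructor
    · intro hg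
      have h2 := charVec_fixed h hw hg
      have h3 : ∀ x, χ w (g x) = χ w x := fun x => by rw [← hg w x, h2]
      exact ⟨fun x y => by rw [hg, h3, h3], h2⟩
    · rintro ⟨h2, h3⟩ x y
      have h4 : ∀ x, χ w (g x) = χ w x := fun x => by
        have := h2 w x
        rwa [h3, h0, zero_mul, zero_mul, add_zero, add_zero] at this
      have := h2 x y
      rwa [h4, h4, add_left_inj] at this
  obtain ⟨U, hU, -, hU2, hU3⟩ := (P.ts_span_singleton (x := w) trivial).card_fix hP
    (finrank_span_singleton hw0) (d := 2 * k) (by omega)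
  rw [h1, hU3, card_isom_of_top _ (P.restrict_nondeg_iff.2 hU) rfl hU2]
  change _ * Nat.card (⊤ : AddSubgroup F) ^ 1 * _ = _
  rw [AddSubgroup.card_top]
  simp [pow_succ]

end CfsgLib.Inv2
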