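import Mathlib
import Cfsg.Agent.Lib.Inv2.SymForm
import Cfsg.Agent.Lib.Forms.Mat

/-!
# Involutions of symplectic and orthogonal groups in characteristic two
-/

set_option autoImplicit false

namespace CfsgLib.Inv2

open Module CfsgLib.Forms

universe u v

section groups

variable {G H : Type*} [Group G] [Group H]

theorem orderOf_eq_two_iff {g : G} : orderOf g = 2 ↔ g * g = 1 ∧ g ≠ 1 := by
  rw [orderOf_eq_prime_iff, pow_two]

/-- Counting conjugacy classes through a family of representatives. -/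
theorem card_classes_of_reps (p : G → Prop) {ι : Type*} (r : ι → G) (h1 : ∀ i, p (r i))
    (h2 : ∀ i j, IsConj (r i) (r j) → i = j) (h3 : ∀ g, p g → ∃ i, IsConj g (r i)) :
    Nat.card {C : ConjClasses G // ∃ g, ConjClasses.mk g = C ∧ p g} = Nat.card ι := by
  refine (Nat.card_congr (Equiv.ofBijective (fun i => ⟨ConjClasses.mk (r i), r i, rfl, h1 i⟩)
    ⟨fun i j h => h2 i j (ConjClasses.mk_eq_mk_iff_isConj.1 (congrArg Subtype.val h)), ?_⟩)).symm
  rintro ⟨_, g, rfl, hg⟩
  obtain ⟨i, hi⟩ := h3 g hg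
  exact ⟨i, Subtype.ext (ConjClasses.mk_eq_mk_iff_isConj.2 hi.symm)⟩

theorem isConj_equiv_iff (e : G ≃* H) {g g' : G} : IsConj (e g) (e g') ↔ IsConj g g' :=
  ⟨fun h => by simpa using e.symm.toMonoidHom.map_isConj h, fun h => e.toMonoidHom.map_isConj h⟩

theorem card_classes_congr (e : G ≃* H) (n : ℕ) :
    Nat.card {C : ConjClasses G // ∃ g, ConjClasses.mk g = C ∧ orderOf g = n}
      = Nat.card {C : ConjClasses H // ∃ g, ConjClasses.mk g = C ∧ orderOf g = n} := by
  refine card_classes_of_reps _ (fun C => e.symm C.2.choose)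
    (fun C => by rw [MulEquiv.orderOf_eq, C.2.choose_spec.2]) (fun C D h => Subtype.ext ?_)
    (fun g hg => ⟨⟨ConjClasses.mk (e g), e g, rfl, by rw [MulEquiv.orderOf_eq, hg]⟩, ?_⟩)
  · rw [← C.2.choose_spec.1, ← D.2.choose_spec.1]
    exact ConjClasses.mk_eq_mk_iff_isConj.2 ((isConj_equiv_iff _).1 h)
  · rw [← isConj_equiv_iff e, e.apply_symm_apply]
    generalize_proofs h
    exact ConjClasses.mk_eq_mk_iff_isConj.1 h.choose_spec.1.symm

theorem card_centralizer_congr (e : G ≃* H) (g : G) :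
    Nat.card (Subgroup.centralizer ({e g} : Set H)) = Nat.card (Subgroup.centralizer ({g} : Set G)) :=
  (Nat.card_congr (e.toEquiv.subtypeEquiv fun x => by
    simp only [Subgroup.mem_centralizer_singleton_iff, MulEquiv.toEquiv_eq_coe, EquivLike.coe_coe,
      ← map_mul, e.apply_eq_iff_eq])).symm

theorem card_commute_commutator (e : G ≃* H) (x : G) :
    Nat.card {g : commutator G // (g : G) * x = x * g}
      = Nat.card ↥(commutator H ⊓ Subgroup.centralizer ({e x} : Set H)) := by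
  have h1 : ∀ g, e g ∈ commutator H ↔ g ∈ commutator G := fun g => by
    have : (commutator G).map (e : G →* H) = commutator H := by
      rw [map_commutator_eq, MonoidHom.range_eq_top.2 e.surjective]; rfl
    rw [← this]
    exact Subgroup.mem_map_iff_mem e.injective
  refine Nat.card_congr ⟨fun g => ⟨e g.1, (h1 _).2 g.1.2,
    Subgroup.mem_centralizer_singleton_iff.2 (by rw [← map_mul, g.2, map_mul])⟩,
    fun h => ⟨⟨e.symm h.1, (h1 _).1 (by simpa using h.2.1)⟩, e.injective (by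
      simpa using Subgroup.mem_centralizer_singleton_iff.1 h.2.2)⟩, fun g => by simp, fun h => by simp⟩

end groups

variable {F : Type u} [Field F] {V : Type v} [AddCommGroup V] [Module F V]

theorem finrank_mov_eq_rank {ι : Type*} [Fintype ι] [DecidableEq ι] {g : (ι → F) ≃ₗ[F] (ι → F)}
    {M : Matrix ι ι F} (h : ∀ v, g v = M.mulVec v) : finrank F (mov g) = (M - 1).rank := by
  have : (g : (ι → F) →ₗ[F] (ι → F)) - LinearMap.id = (M - 1).mulVecLin :=
    LinearMap.ext fun v => by simp [h]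
  rw [mov, this, Matrix.rank]

theorem mov_eq_range {ι : Type*} [Fintype ι] [DecidableEq ι] {g : (ι → F) ≃ₗ[F] (ι → F)}
    {M : Matrix ι ι F} (h : ∀ v, g v = M.mulVec v) :
    mov g = LinearMap.range (Matrix.toLin' (M - 1)) := by
  have : (g : (ι → F) →ₗ[F] (ι → F)) - LinearMap.id = Matrix.toLin' (M - 1) :=
    LinearMap.ext fun v => by simp [h]
  rw [mov, this]

theorem exists_le_finrank_eq [FiniteDimensional F V] (k : ℕ) (W : Submodule F V)
    (h : k ≤ finrank F W) : ∃ U : Submodule F V, U ≤ W ∧ finrank F U = k := by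
  obtain ⟨f, hf⟩ := exists_linearIndependent_of_le_finrank h
  exact ⟨(Submodule.span F (Set.range f)).map W.subtype, W.map_subtype_le _, by
    rw [Submodule.finrank_map_subtype_eq, finrank_span_eq_card hf, Fintype.card_fin]⟩

/-- Orbit-stabiliser for the pointwise fixer of a subspace. -/
theorem card_fix_eq_mul {σ : F →+* F} {P : PQ σ V} [FiniteDimensional F V] (hP : P.Nondeg)
    (H : Submodule F V) {v : V} (hv : v ∉ H) :
    Nat.card ↥(P.isom ⊓ linFix H) =
      Nat.card {x // x ∉ H ∧ (∀ h ∈ H, P.B h x = P.B h v) ∧ P.N x - P.N v ∈ P.Λ} *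
      Nat.card ↥(P.isom ⊓ linFix (H ⊔ Submodule.span F {v})) := by
  set G := P.isom ⊓ linFix H with hG
  have horb : MulAction.orbit G v =
      {x | x ∉ H ∧ (∀ h ∈ H, P.B h x = P.B h v) ∧ P.N x - P.N v ∈ P.Λ} := by
    ext z
    constructor
    · rintro ⟨g, rfl⟩
      have hg : P.IsIso g.1 := g.2.1
      refine ⟨fun h => hv ((linFix_le_linStab H g.2.2 v).2 h), fun k hk => ?_, hg.N_eq v⟩
      rw [← hg.B_eq k v, g.2.2 k hk]; rfl
    · rintro ⟨h1, h2, h3⟩
      obtain ⟨g, hg, h4, h5⟩ := P.witt_step hP H hv h1 h2 h3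
      exact ⟨⟨g, hg, h4⟩, h5⟩
  have hstab : MulAction.stabilizer G v =
      (P.isom ⊓ linFix (H ⊔ Submodule.span F {v})).subgroupOf G := by
    ext g
    rw [MulAction.mem_stabilizer_iff, Subgroup.mem_subgroupOf, linFix_sup]
    exact ⟨fun h => ⟨g.2.1, g.2.2, mem_linFix_span.2 (by rintro _ rfl; exact h)⟩,
      fun h => h.2.2 v (Submodule.mem_span_singleton_self v)⟩
  rw [← (MulAction.stabilizer G v).card_mul_index, MulAction.index_stabilizer, horb, hstab,
    Nat.card_congr (Subgroup.subgroupOfEquivOfLe (by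
      rw [linFix_sup]; exact inf_le_inf_left _ inf_le_left)).toEquiv, mul_comm,
    ← Nat.card_coe_set_eq]
  rfl

/-- Involutions of type `a`: `B v (t v)` vanishes identically. -/
def TypeA (P : PQ (RingHom.id F) V) (t : V ≃ₗ[F] V) : Prop := ∀ v, P.B v (t v) = 0

variable [CharP F 2] {P : PQ (RingHom.id F) V} {t : V ≃ₗ[F] V}

variable (F) in
include F in
theorem add_self' (x : V) : x + x = 0 := by
  rw [← two_smul F, CharTwo.two_eq_zero, zero_smul]

variable (F) in
include F in
theorem sub_eq_add' (x y : V) : x - y = x + y := by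
  rw [sub_eq_add_neg, neg_eq_of_add_eq_zero_left (add_self' F y)]

variable (P) in
theorem ε_eq_one : P.ε = 1 := by
  rcases mul_self_eq_one_iff.1 P.εε with h | h
  · exact h
  · rw [h, CharTwo.neg_eq]

variable (P) in
theorem B_symm (x y : V) : P.B x y = P.B y x := by
  rw [P.symm y x, ε_eq_one, one_mul, RingHom.id_apply]

variable (P) in
theorem B_self (x : V) : P.B x x = 0 := by
  rw [P.self, ε_eq_one, one_mul, RingHom.id_apply, CharTwo.add_self_eq_zero]

theorem fix_mov (ht2 : t * t = 1) {u : V} (hu : u ∈ mov t) : t u = u := by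
  obtain ⟨x, rfl⟩ := mem_mov.1 hu
  have : t (t x) = x := congrArg (fun e : V ≃ₗ[F] V => e x) ht2
  rw [map_sub, this, sub_eq_add' F, sub_eq_add' F, add_comm]

theorem mul_self_of_fix (h : ∀ u ∈ mov t, t u = u) : t * t = 1 := by
  ext x
  have := h _ (sub_mem_mov t x)
  rw [map_sub, sub_eq_add' F, sub_eq_add' F, add_comm (t x), add_left_inj] at this
  exact this

theorem B_mov_eq_zero (ht : P.IsIso t) (ht2 : t * t = 1) {u u' : V} (hu : u ∈ mov t)
    (hu' : u' ∈ mov t) : P.B u u' = 0 := B_fix_mov ht (fix_mov ht2 hu) hu'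

theorem two_mul_finrank_mov_le [FiniteDimensional F V] (hP : P.Nondeg) (ht : P.IsIso t)
    (ht2 : t * t = 1) : 2 * finrank F (mov t) ≤ finrank F V := by
  have h1 := P.finrank_perp hP (mov t)
  have h2 : finrank F (mov t) ≤ finrank F (P.perp (mov t)) :=
    Submodule.finrank_mono fun u hu w hw => B_mov_eq_zero ht ht2 hw hu
  omega

theorem wall_symm (ht : P.IsIso t) (ht2 : t * t = 1) (u u' : mov t) :
    wall P t u u' = wall P t u' u := by
  have := B_mov ht u u'
  rw [B_mov_eq_zero ht ht2 u.2 u'.2, ε_eq_one, one_mul, RingHom.id_apply, CharTwo.neg_eq] at this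
  exact sub_eq_zero.1 this.symm

theorem wall_self (ht : P.IsIso t) (x : V) :
    wall P t ⟨t x - x, sub_mem_mov t x⟩ ⟨t x - x, sub_mem_mov t x⟩ = P.B x (t x) := by
  rw [wall_eq ht (x := x) rfl, P.B_sub_right, B_self, sub_zero]

theorem typeA_iff (ht : P.IsIso t) : TypeA P t ↔ ∀ u, wall P t u u = 0 :=
  ⟨fun h ⟨_, x, hx⟩ => by
    have hx' : t x - x = _ := hx
    subst hx'
    exact (wall_self ht x).trans (h x), fun h x => (wall_self ht x).symm.trans (h _)⟩

theorem TypeA.ts (ht : P.IsIso t) (ht2 : t * t = 1) (h : TypeA P t) : P.TS (mov t) :=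
  ⟨fun u hu => by
    have := N_mov ht ⟨u, hu⟩
    rwa [(typeA_iff ht).1 h, add_zero] at this,
   fun _ hu _ hw => B_mov_eq_zero ht ht2 hw hu⟩

variable [FiniteDimensional F V]

theorem TypeA.even (hP : P.Nondeg) (ht : P.IsIso t) (h : TypeA P t) : Even (finrank F (mov t)) :=
  even_finrank_of_alt (wall P t) ((typeA_iff ht).1 h)
    (nondegenerate_of_isAlt ((typeA_iff ht).1 h) (wall_nondeg hP ht))

theorem exists_typeA (hP : P.Nondeg) {U : Submodule F V} (hU : P.TS U) (he : Even (finrank F U)) :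
    ∃ t : P.isom, t * t = 1 ∧ mov t.1 = U ∧ TypeA P t.1 := by
  obtain ⟨A, hA, hA'⟩ := exists_isAlt (F := F) he
  obtain ⟨g, hg, h1, h2⟩ := exists_of_wall hP U A hA'
    (fun u u' => by
      rw [hU.B_eq u.2 u'.2, ε_eq_one, one_mul, symm_of_isAlt hA u u', CharTwo.neg_eq, sub_self])
    (fun u => by rw [hA u, add_zero]; exact hU.1 _ u.2)
  refine ⟨⟨g, hg⟩, Subtype.ext (mul_self_of_fix fun u hu => (mem_perp_mov hP hg).1 ?_), h1,
    fun x => ?_⟩
  · rw [h1] at hu ⊢; exact hU.2 hu
  · obtain ⟨u, hu, hu'⟩ := h2 x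
    have := hu' u
    rwa [hA u, ← hu, P.B_sub_right, B_self, sub_zero, eq_comm] at this

theorem exists_not_typeA (hP : P.Nondeg) {U : Submodule F V} (hU : U ≤ P.perp U)
    (f : Module.Dual F U) (hf : f ≠ 0) (hN : ∀ u : U, P.N u + f u ^ 2 ∈ P.Λ) :
    ∃ t : P.isom, t * t = 1 ∧ mov t.1 = U ∧ ¬ TypeA P t.1 := by
  obtain ⟨A, hA, hA', hA''⟩ := exists_symm_of_functional f hf
  obtain ⟨g, hg, h1, h2⟩ := exists_of_wall hP U A hA'
    (fun u u' => by rw [hU u'.2 _ u.2, ε_eq_one, one_mul, hA u u', CharTwo.neg_eq, sub_self])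
    (fun u => by rw [hA'' u]; exact hN u)
  refine ⟨⟨g, hg⟩, Subtype.ext (mul_self_of_fix fun u hu => (mem_perp_mov hP hg).1 ?_), h1,
    fun h => hf (LinearMap.ext fun u => ?_)⟩
  · rw [h1] at hu ⊢; exact hU hu
  · obtain ⟨x, hx⟩ := mem_mov.1 (h1.ge u.2)
    obtain ⟨u', hu, hu'⟩ := h2 x
    obtain rfl : u' = u := Subtype.ext (hu.symm.trans hx)
    have := hu' u'
    rw [hA'', ← hu, P.B_sub_right, B_self, sub_zero, h x] at this
    simpa using this

variable [Finite F]

/-- Conjugacy criterion for involutions. -/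
theorem isConj_iff_typeA (hP : P.Nondeg) {t s : P.isom} (ht : t * t = 1) (hs : s * s = 1) :
    IsConj t s ↔ finrank F (mov t.1) = finrank F (mov s.1) ∧ (TypeA P t.1 ↔ TypeA P s.1) := by
  rw [isConj_iff_wall hP, typeA_iff t.2, typeA_iff s.2]
  constructor
  · rintro ⟨φ, hφ⟩
    exact ⟨φ.finrank_eq, fun h u => by rw [← φ.apply_symm_apply u, hφ, h],
      fun h u => by rw [← hφ, h]⟩
  · rintro ⟨h1, h2⟩
    exact exists_equiv_of_symm (wall_symm t.2 (congrArg Subtype.val ht))
      (wall_symm s.2 (congrArg Subtype.val hs)) (wall_nondeg hP t.2) (wall_nondeg hP s.2) h1 h2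

omit [FiniteDimensional F V] in
theorem card_of_not_typeA (ht : P.IsIso t) (ht2 : t * t = 1) (h : ¬ TypeA P t) :
    Nat.card {v // P.B v (t v) = 0} * Nat.card F = Nat.card V := by
  have h2 : ∀ x, t (t x) = x := fun x => congrArg (fun e : V ≃ₗ[F] V => e x) ht2
  obtain ⟨g, hg⟩ := exists_sqrt_functional (fun v => P.B v (t v))
    (fun x y => by
      have : P.B x (t y) = P.B y (t x) := by rw [← ht.B_eq x, h2, B_symm]
      simp only [map_add, LinearMap.add_apply, this]
      linear_combination CharTwo.add_self_eq_zero (P.B y (t x)))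
    (fun c x => by simp only [map_smul, LinearMap.smul_apply, smul_eq_mul]; ring)
  rw [← CfsgLib.Symp.card_fiber_mul g (fun h0 => h fun v => by simp [hg, h0]) 0]
  congr 1
  exact Nat.card_congr (Equiv.subtypeEquivRight fun v => by simp [hg])

/-- The number of classes of involutions. -/
theorem card_classes (hP : P.Nondeg) {m k : ℕ} (hd : finrank F V = 2 * m)
    (hk : ∀ U, P.TS U → finrank F U ≤ k) {M : Submodule F V} (hM : P.TS M) (hMk : finrank F M = k)
    (hB : ∀ s, 1 ≤ s → s ≤ m → ∃ t : P.isom, t * t = 1 ∧ finrank F (mov t.1) = s ∧ ¬ TypeA P t.1) :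
    Nat.card {C : ConjClasses P.isom // ∃ g, ConjClasses.mk g = C ∧ orderOf g = 2} = m + k / 2 := by
  choose b hb1 hb2 hb3 using fun i : Fin m => hB (i + 1) (by omega) (by omega)
  have hA : ∀ i : Fin (k / 2), ∃ t : P.isom, t * t = 1 ∧ finrank F (mov t.1) = 2 * (i + 1) ∧
      TypeA P t.1 := fun i => by
    obtain ⟨U, hU, hU'⟩ := exists_le_finrank_eq (2 * (i + 1)) M (by omega)
    obtain ⟨t, h1, h2, h3⟩ := exists_typeA hP (hM.mono hU) (by rw [hU']; simp)
    exact ⟨t, h1, by rw [h2, hU'], h3⟩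
  choose a ha1 ha2 ha3 using hA
  have hne : ∀ t : P.isom, t ≠ 1 ↔ finrank F (mov t.1) ≠ 0 := fun t => by
    rw [Ne, Ne, Submodule.finrank_eq_zero, mov_eq_bot_iff]
    exact not_congr Subtype.ext_iff
  rw [card_classes_of_reps _ (Sum.elim b a)]
  · simp
  · rintro (i | i)
    · exact orderOf_eq_two_iff.2 ⟨hb1 i, (hne _).2 (by rw [Sum.elim_inl, hb2]; omega)⟩
    · exact orderOf_eq_two_iff.2 ⟨ha1 i, (hne _).2 (by rw [Sum.elim_inr, ha2]; omega)⟩
  · rintro (i | i) (j | j) h
    · have := ((isConj_iff_typeA hP (hb1 i) (hb1 j)).1 h).1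
      rw [hb2, hb2] at this
      exact congrArg _ (Fin.ext (by omega))
    · exact absurd (((isConj_iff_typeA hP (hb1 i) (ha1 j)).1 h).2.2 (ha3 j)) (hb3 i)
    · exact absurd (((isConj_iff_typeA hP (ha1 i) (hb1 j)).1 h).2.1 (ha3 i)) (hb3 j)
    · have := ((isConj_iff_typeA hP (ha1 i) (ha1 j)).1 h).1
      rw [ha2, ha2] at this
      exact congrArg _ (Fin.ext (by omega))
  · intro g hg
    obtain ⟨h1, h2⟩ := orderOf_eq_two_iff.1 hg
    have h3 := (hne g).1 h2
    by_cases h : TypeA P g.1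
    · obtain ⟨r, hr⟩ := h.even hP g.2
      have := hk _ (h.ts g.2 (congrArg Subtype.val h1))
      exact ⟨.inr ⟨r - 1, by omega⟩, (isConj_iff_typeA hP h1 (ha1 _)).2
        ⟨by rw [ha2]; simp only; omega, iff_of_true h (ha3 _)⟩⟩
    · have := two_mul_finrank_mov_le hP g.2 (congrArg Subtype.val h1)
      exact ⟨.inl ⟨finrank F (mov g.1) - 1, by omega⟩, (isConj_iff_typeA hP h1 (hb1 _)).2
        ⟨by rw [hb2]; simp only; omega, iff_of_false h (hb3 _)⟩⟩

theorem card_formIsom_wall_odd (hP : P.Nondeg) (ht : P.IsIso t) (ht2 : t * t = 1) {k : ℕ}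
    (hk : finrank F (mov t) = 2 * k + 1) :
    Nat.card (formIsom (wall P t)) = spOrd (Nat.card F) k :=
  card_formIsom_of_odd (wall_symm ht ht2) (wall_nondeg hP ht) hk

theorem card_formIsom_wall_typeA (hP : P.Nondeg) (ht : P.IsIso t) (h : TypeA P t) {k : ℕ}
    (hk : finrank F (mov t) = 2 * k) :
    Nat.card (formIsom (wall P t)) = spOrd (Nat.card F) k :=
  card_formIsom_of_isAlt ((typeA_iff ht).1 h) (wall_nondeg hP ht) hk

theorem card_formIsom_wall_even (hP : P.Nondeg) (ht : P.IsIso t) (ht2 : t * t = 1)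
    (h : ¬ TypeA P t) {k : ℕ} (hk : finrank F (mov t) = 2 * k + 2) :
    Nat.card (formIsom (wall P t)) = Nat.card F ^ (2 * k + 1) * spOrd (Nat.card F) k :=
  card_formIsom_of_even (wall_symm ht ht2) (wall_nondeg hP ht) (fun h' => h ((typeA_iff ht).2 h')) hk

/-! ### The symplectic case -/

omit [CharP F 2] in
theorem card_fix_of_top (hP : P.Nondeg) (hΛ : P.Λ = ⊤) {U : Submodule F V} (hU : U ≤ P.perp U)
    {s j : ℕ} (hs : finrank F U = s) (hd : finrank F V = 2 * (s + j)) :
    Nat.card ↥(P.isom ⊓ linFix U)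
      = Nat.card F ^ (s * (2 * j) + s.choose 2 + s) * spOrd (Nat.card F) j := by
  obtain ⟨W, h1, -, h3, h4⟩ := PQ.TS.card_fix hP (W := U)
    ⟨fun w _ => by rw [PQ.Sing, hΛ]; trivial, hU⟩ hs (d := 2 * j) (by omega)
  rw [h4, card_isom_of_top _ (P.restrict_nondeg_iff.2 h1) hΛ h3, hΛ, AddSubgroup.card_top, ← pow_add]

theorem card_centralizer_of_top (hP : P.Nondeg) (hΛ : P.Λ = ⊤) {t : P.isom} (ht : t * t = 1)
    {s j : ℕ} (hs : finrank F (mov t.1) = s) (hd : finrank F V = 2 * (s + j)) :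
    Nat.card (Subgroup.centralizer ({t} : Set P.isom)) = Nat.card (formIsom (wall P t.1)) *
      (Nat.card F ^ (s * (2 * j) + s.choose 2 + s) * spOrd (Nat.card F) j) := by
  rw [card_centralizer hP, card_fix_of_top hP hΛ
    (fun u hu w hw => B_mov_eq_zero t.2 (congrArg Subtype.val ht) hw hu) hs hd]

theorem card_classes_of_top (hP : P.Nondeg) (hΛ : P.Λ = ⊤) {m : ℕ} (hd : finrank F V = 2 * m)
    {M : Submodule F V} (hM : P.TS M) (hMk : finrank F M = m) :
    Nat.card {C : ConjClasses P.isom // ∃ g, ConjClasses.mk g = C ∧ orderOf g = 2} = m + m / 2 := by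
  refine card_classes hP hd (fun U hU => by have := hU.two_mul_finrank_le hP; omega) hM hMk
    fun s h1 h2 => ?_
  obtain ⟨U, hU, hU'⟩ := exists_le_finrank_eq s M (by omega)
  have : Nontrivial (Module.Dual F U) :=
    Module.nontrivial_of_finrank_pos (R := F) (by rw [Subspace.dual_finrank_eq]; omega)
  obtain ⟨f, hf⟩ := exists_ne (0 : Module.Dual F U)
  obtain ⟨t, h3, h4, h5⟩ := exists_not_typeA hP (hM.mono hU).2 f hf fun u => by rw [hΛ]; trivial
  exact ⟨t, h3, by rw [h4, hU'], h5⟩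

theorem two_mul_choose_two_add (s : ℕ) : 2 * s.choose 2 + s = s ^ 2 := by
  induction s with
  | zero => simp
  | succ s ih => rw [Nat.choose_succ_succ' s 1, Nat.choose_one_right]; nlinarith

end CfsgLib.Inv2
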