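import Mathlib
import Cfsg.Agent.Lib.Inv2.Inv
import Cfsg.Agent.Lib.OrthE.Normal
import Cfsg.Agent.Lib.Orth.Lagrangian

/-!
# Involutions of orthogonal groups in characteristic two
-/

set_option autoImplicit false

namespace CfsgLib.Inv2

open Module QuadraticMap CfsgLib.Forms CfsgLib.Orth

section groups

variable {G : Type*} [Group G]

theorem isConj_subgroup_iff {H : Subgroup G} {t s : H} :
    IsConj t s ↔ ∃ g ∈ H, g * t * g⁻¹ = s := by
  rw [isConj_iff]
  exact ⟨fun ⟨g, hg⟩ => ⟨g, g.2, congrArg Subtype.val hg⟩,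
    fun ⟨g, hg, h⟩ => ⟨⟨g, hg⟩, Subtype.ext h⟩⟩

theorem card_inf_mul_two {H K : Subgroup G} {a : G} (ha : a ∈ K) (ha' : a ∉ H)
    (h : ∀ b, a * b ∈ H ∨ b ∈ H) : Nat.card ↥(H ⊓ K) * 2 = Nat.card K := by
  rw [← (Subgroup.relIndex_eq_two_iff_exists_notMem_and' (H := H) (K := K)).2
    ⟨a, ha, ha', fun b _ => h b⟩, Subgroup.relIndex, ← (H.subgroupOf K).card_mul_index,
    ← Subgroup.inf_subgroupOf_right,
    Nat.card_congr (Subgroup.subgroupOfEquivOfLe inf_le_right).toEquiv]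

end groups

variable {F V : Type*} [Field F] [AddCommGroup V] [Module F V] {Q : QuadraticForm F V}

/-- The orthogonal group as the isometry group of pseudo-quadratic data. -/
def oE (Q : QuadraticForm F V) : OG Q ≃* (ofQuad Q).isom :=
  MulEquiv.subgroupCongr (OrthE.O_eq_isom Q)

theorem oE_val (g : OG Q) : (oE Q g).1 = g.1 := rfl

theorem isIso_OG (g : OG Q) : (ofQuad Q).IsIso g.1 := (oE Q g).2

theorem oE_mul_self {t : OG Q} (ht : t * t = 1) : oE Q t * oE Q t = 1 := by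
  rw [← map_mul, ht, map_one]

theorem ne_one_iff_finrank_mov [FiniteDimensional F V] (t : OG Q) :
    t ≠ 1 ↔ finrank F (mov t.1) ≠ 0 := by
  rw [Ne, Ne, Submodule.finrank_eq_zero, mov_eq_bot_iff]
  exact not_congr Subtype.ext_iff

theorem reflSubgroup_eq_top_of_index_le_one [FiniteDimensional F V]
    (hQ : (polarBilin Q).Nondegenerate)
    (h : ∀ M : Submodule F V, (∀ w ∈ M, Q w = 0) → finrank F M ≤ 1) : reflSubgroup Q = ⊤ := by
  refine OrthE.eq_top_of_refl_of_siegel ((OrthE.nondeg_iff Q).2 hQ) (reflSubgroup Q)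
    (fun v _ => ?_) fun u v hu hv huv => ?_
  · have : OrthE.refl Q v = refl Q v :=
      OrthE.O_ext fun x => by rw [OrthE.refl_apply, refl_apply, polar_comm]
    rw [this]; exact refl_mem_reflSubgroup v
  · by_cases hu0 : u = 0
    · rw [hu0, OrthE.eich_zero_left]; exact one_mem _
    · have h1 := h (Submodule.span F {u, v}) fun w hw => by
        obtain ⟨a, b, rfl⟩ := Submodule.mem_span_pair.1 hw
        simp [Q_add, Q_smul, hu, hv, huv]
      have h2 : Submodule.span F {u} = Submodule.span F {u, v} :=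
        Submodule.eq_of_le_of_finrank_le (Submodule.span_mono (by simp))
          (by rw [finrank_span_singleton hu0]; exact h1)
      obtain ⟨a, rfl⟩ := Submodule.mem_span_singleton.1 (h2.ge (Submodule.subset_span (by simp :
        v ∈ ({u, v} : Set V))))
      rw [OrthE.eich_smul_self]; exact one_mem _

theorem exists_ts_of_perp [FiniteDimensional F V] (hQ : (polarBilin Q).Nondegenerate)
    {M U W : Submodule F V} (hM : ∀ w ∈ M, Q w = 0) (hU : ∀ w ∈ U, Q w = 0)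
    (hW : Disjoint W ((ofQuad Q).perp W)) (hUW : U ≤ (ofQuad Q).perp W) {k j : ℕ}
    (hk : finrank F U = k) (hj : finrank F W = 2 * j) (hm : finrank F M = k + j)
    (hd : finrank F V = 2 * (k + j)) :
    ∃ M' : Submodule F W, (∀ w ∈ M', Q.comp W.subtype w = 0) ∧ finrank F M' = j := by
  obtain ⟨M1, h1, h2, h3⟩ := (OrthE.ts_iff.2 hU).exists_le (ofQuad_nondeg Q hQ) (OrthE.ts_iff.2 hM)
    (by omega)
  have h4 := (ofQuad Q).finrank_perp (ofQuad_nondeg Q hQ) U
  have h5 : finrank F ↥(M1 ⊔ W) ≤ finrank F ((ofQuad Q).perp U) := Submodule.finrank_mono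
    (sup_le (h1.2.trans ((ofQuad Q).perp_anti h2)) ((ofQuad Q).le_perp_comm.1 hUW))
  have h6 := Submodule.finrank_sup_add_finrank_inf_eq M1 W
  have h7 : ∀ w ∈ (M1 ⊓ W).comap W.subtype, Q.comp W.subtype w = 0 :=
    fun w hw => OrthE.ts_iff.1 h1 _ hw.1
  have h8 := (Submodule.comapSubtypeEquivOfLe (inf_le_right : M1 ⊓ W ≤ W)).finrank_eq
  have h9 := (OrthE.ts_iff.2 h7).two_mul_finrank_le (OrthE.nondeg_comp_of_disjoint hW).ofQuad
  exact ⟨_, h7, by omega⟩

variable [CharP F 2]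

theorem polar_self_charTwo (x : V) : polar Q x x = 0 := B_self (ofQuad Q) x

theorem typeA_quad (g : OG Q) : TypeA (ofQuad Q) g.1 ↔ ∀ u ∈ mov g.1, Q u = 0 := by
  have : ∀ v, Q (g.1 v - v) = polar Q v (g.1 v) := fun v => by
    rw [sub_eq_add' F, Q_add, OG.map_Q, CharTwo.add_self_eq_zero, zero_add, polar_comm]
  exact ⟨fun h u hu => by obtain ⟨x, rfl⟩ := mem_mov.1 hu; rw [this]; exact h x,
    fun h v => (this v).symm.trans (h _ (sub_mem_mov _ v))⟩

variable [FiniteDimensional F V] [Finite F] (hQ : (polarBilin Q).Nondegenerate)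
include hQ

theorem isConj_OG_iff {t s : OG Q} (ht : t * t = 1) (hs : s * s = 1) :
    IsConj t s ↔ finrank F (mov t.1) = finrank F (mov s.1) ∧
      (TypeA (ofQuad Q) t.1 ↔ TypeA (ofQuad Q) s.1) := by
  rw [← isConj_equiv_iff (oE Q),
    isConj_iff_typeA (ofQuad_nondeg Q hQ) (oE_mul_self ht) (oE_mul_self hs)]
  rfl

theorem isConj_OG_iff_sp {t s : OG Q} (ht : t * t = 1) (hs : s * s = 1) :
    IsConj t s ↔ ∃ g : V ≃ₗ[F] V, (∀ x y, polar Q (g x) (g y) = polar Q x y) ∧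
      g * t.1 * g⁻¹ = s.1 := by
  have hA : (polarBilin Q).IsAlt := fun x => polar_self_charTwo x
  have h1 := isConj_iff_typeA (ofAlt_nondeg _ hA hQ)
    (t := ⟨t.1, (ofAlt_isIso _ _ _).2 (OG.map_polar t)⟩)
    (s := ⟨s.1, (ofAlt_isIso _ _ _).2 (OG.map_polar s)⟩)
    (Subtype.ext (congrArg Subtype.val ht :)) (Subtype.ext (congrArg Subtype.val hs :))
  refine (isConj_OG_iff hQ ht hs).trans (h1.symm.trans (isConj_subgroup_iff.trans ?_))
  exact exists_congr fun g => and_congr_left' (ofAlt_isIso _ _ _)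

omit hQ in
theorem exists_decomp {U : Submodule F V} (hU : U ≤ (ofQuad Q).perp U) {v : V} (hv : v ∈ U)
    (hv' : Q v ≠ 0) : ∃ U0 : Submodule F V, (∀ w ∈ U0, Q w = 0) ∧
      U0 ⊔ Submodule.span F {v} = U ∧ finrank F U0 + 1 = finrank F U := by
  obtain ⟨f, hf⟩ := exists_sqrt_functional (fun u : U => Q u)
    (fun x y => by
      have : polar Q (x : V) y = 0 := hU y.2 _ x.2
      simp [Q_add, this])
    (fun c x => by simp only [Submodule.coe_smul, Q_smul]; ring)
  have h0 : ∀ w ∈ (LinearMap.ker f).map U.subtype, Q w = 0 := by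
    rintro _ ⟨w, hw, rfl⟩
    exact (hf w).trans (by rw [LinearMap.mem_ker.1 hw]; simp)
  have h1 := finrank_ker_add_one (f := f) fun h => hv' ((hf ⟨v, hv⟩).trans (by simp [h]))
  rw [← Submodule.finrank_map_subtype_eq] at h1
  refine ⟨_, h0, Submodule.eq_of_le_of_finrank_eq
    (sup_le (U.map_subtype_le _) (by simpa using hv)) ?_, h1⟩
  rw [Submodule.finrank_sup_span_singleton fun h => hv' (h0 v h), h1]

omit [Finite F] in
theorem exists_typeA_OG {M : Submodule F V} (hM : ∀ w ∈ M, Q w = 0) {s : ℕ}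
    (h1 : 2 * s ≤ finrank F M) :
    ∃ t : OG Q, t * t = 1 ∧ finrank F (mov t.1) = 2 * s ∧ TypeA (ofQuad Q) t.1 := by
  obtain ⟨U, hU, hU'⟩ := exists_le_finrank_eq _ M h1
  obtain ⟨t, h1, h2, h3⟩ := exists_typeA (ofQuad_nondeg Q hQ) ((OrthE.ts_iff.2 hM).mono hU)
    (by rw [hU']; simp)
  exact ⟨(oE Q).symm t, by rw [← map_mul, h1, map_one], by rw [← hU', ← h2]; rfl, h3⟩

theorem exists_not_typeA_OG {m : ℕ} (hd : finrank F V = 2 * m) {M : Submodule F V}
    (hM : ∀ w ∈ M, Q w = 0) (hm : m ≤ finrank F M + 1) {s : ℕ} (h1 : 1 ≤ s) (h2 : s ≤ m) :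
    ∃ t : OG Q, t * t = 1 ∧ finrank F (mov t.1) = s ∧ ¬ TypeA (ofQuad Q) t.1 := by
  obtain ⟨U, hU, hU'⟩ := exists_le_finrank_eq (s - 1) M (by omega)
  obtain ⟨v, hv, hv'⟩ := exists_nonsingular_perp hQ (W := U) (by omega)
  have h3 : U ⊔ Submodule.span F {v} ≤ (ofQuad Q).perp (U ⊔ Submodule.span F {v}) := by
    have h4 : Submodule.span F {v} ≤ (ofQuad Q).perp U :=
      (Submodule.span_singleton_le_iff_mem _ _).2 hv'
    rw [PQ.perp_sup]
    exact sup_le (le_inf ((OrthE.ts_iff.2 hM).mono hU).2 ((ofQuad Q).le_perp_comm.1 h4))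
      (le_inf h4 (by simpa [PQ.mem_perp_span_singleton] using B_self _ v))
  have hvU : v ∈ U ⊔ Submodule.span F {v} :=
    Submodule.mem_sup_right (Submodule.mem_span_singleton_self v)
  obtain ⟨f, hf⟩ := exists_sqrt_functional (fun u : ↥(U ⊔ Submodule.span F {v}) => Q u)
    (fun x y => by
      have : polar Q (x : V) y = 0 := h3 y.2 _ x.2
      simp [Q_add, this])
    (fun c x => by simp only [Submodule.coe_smul, Q_smul]; ring)
  obtain ⟨t, h4, h5, h6⟩ := exists_not_typeA (ofQuad_nondeg Q hQ) h3 f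
    (fun h => hv ((hf ⟨v, hvU⟩).trans (by simp [h])))
    (fun u => by rw [ofQuad_mem, ofQuad_N, ← hf, CharTwo.add_self_eq_zero])
  refine ⟨(oE Q).symm t, by rw [← map_mul, h4, map_one], ?_, h6⟩
  rw [show mov ((oE Q).symm t).1 = _ from h5,
    Submodule.finrank_sup_span_singleton fun h => hv (hM v (hU h))]
  omega

theorem card_classes_OG {m k : ℕ} (hd : finrank F V = 2 * m)
    (hk : ∀ U : Submodule F V, (∀ w ∈ U, Q w = 0) → finrank F U ≤ k) {M : Submodule F V}
    (hM : ∀ w ∈ M, Q w = 0) (hMk : finrank F M = k) (hm : m ≤ k + 1) :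
    Nat.card {C : ConjClasses (OG Q) // ∃ g, ConjClasses.mk g = C ∧ orderOf g = 2} = m + k / 2 := by
  rw [card_classes_congr (oE Q)]
  refine card_classes (ofQuad_nondeg Q hQ) hd (fun U hU => hk U (OrthE.ts_iff.1 hU))
    (OrthE.ts_iff.2 hM) hMk fun s h1 h2 => ?_
  obtain ⟨t, h3, h4, h5⟩ := exists_not_typeA_OG hQ hd hM (by omega) h1 h2
  exact ⟨oE Q t, oE_mul_self h3, h4, h5⟩

/-! ### The commutator subgroup -/

theorem mem_commutator_iff_even (hR : reflSubgroup Q = ⊤) (g : OG Q) :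
    g ∈ commutator (OG Q) ↔ Even (finrank F (mov g.1)) := by
  have hR' : ∀ g : OG Q, ∃ l : List V, (∀ v ∈ l, Q v ≠ 0) ∧ g = reflProd Q l :=
    fun g => hR.ge (Subgroup.mem_top g)
  constructor
  · let φ : OG Q →* Multiplicative (ZMod 2) :=
      { toFun := fun g => Multiplicative.ofAdd (finrank F (movSpace g) : ZMod 2)
        map_one' := by rw [movSpace_one]; simp
        map_mul' := fun g h => by
          obtain ⟨l, hl, rfl⟩ := hR' g
          have h1 := even_finrank_movSpace_reflProd_mul hQ hl h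
          rw [← even_finrank_movSpace_reflProd hQ hl, ← Nat.even_add] at h1
          rw [← ofAdd_add, ← Nat.cast_add, (ZMod.natCast_eq_natCast_iff' _ _ 2).2]
          simp only [Nat.even_iff] at h1
          omega }
    intro hg
    exact ZMod.natCast_eq_zero_iff_even.1 (Abelianization.commutator_subset_ker φ hg)
  · obtain ⟨l, hl, rfl⟩ := hR' g
    exact fun h => reflProd_mem_commutator hQ hl ((even_finrank_movSpace_reflProd hQ hl).1 h)
      (isSquare_of_charTwo CharTwo.two_eq_zero _)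

theorem refl_mul_mem_iff (hR : reflSubgroup Q = ⊤) {v : V} (hv : Q v ≠ 0) (g : OG Q) :
    refl Q v * g ∈ commutator (OG Q) ↔ g ∉ commutator (OG Q) := by
  rw [mem_commutator_iff_even hQ hR, mem_commutator_iff_even hQ hR, Nat.even_iff, Nat.even_iff]
  have : finrank F (mov (refl Q v * g).1) + 1 = finrank F (mov g.1) ∨
    finrank F (mov (refl Q v * g).1) = finrank F (mov g.1) + 1 := finrank_movSpace_refl_mul hQ g hv
  omega

theorem refl_not_mem (hR : reflSubgroup Q = ⊤) {v : V} (hv : Q v ≠ 0) :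
    refl Q v ∉ commutator (OG Q) := fun h =>
  (refl_mul_mem_iff hQ hR hv 1).1 (by rwa [mul_one]) (one_mem _)

omit [Finite F] in
theorem exists_refl_commute {t : OG Q} (ht : t * t = 1)
    (h : ¬ (TypeA (ofQuad Q) t.1 ∧ 2 * finrank F (mov t.1) = finrank F V)) :
    ∃ v, Q v ≠ 0 ∧ refl Q v * t = t * refl Q v := by
  suffices ∃ v, Q v ≠ 0 ∧ t.1 v = v by
    obtain ⟨v, h1, h2⟩ := this
    refine ⟨v, h1, ?_⟩
    have := conj_refl t v
    rw [h2, mul_inv_eq_iff_eq_mul] at this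
    exact this.symm
  by_cases hA : TypeA (ofQuad Q) t.1
  · have := two_mul_finrank_mov_le (ofQuad_nondeg Q hQ) (isIso_OG t) (congrArg Subtype.val ht)
    obtain ⟨v, h1, h2⟩ := exists_nonsingular_perp hQ (W := mov t.1)
      (lt_of_le_of_ne this fun h' => h ⟨hA, h'⟩)
    exact ⟨v, h1, (mem_perp_mov (ofQuad_nondeg Q hQ) (isIso_OG t)).1 h2⟩
  · rw [typeA_quad] at hA
    push Not at hA
    obtain ⟨v, h1, h2⟩ := hA
    exact ⟨v, h2, fix_mov (congrArg Subtype.val ht) h1⟩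

theorem exists_conj_commutator (hR : reflSubgroup Q = ⊤) {t s : OG Q} (hs : s * s = 1)
    (h : ¬ (TypeA (ofQuad Q) s.1 ∧ 2 * finrank F (mov s.1) = finrank F V)) (hts : IsConj t s) :
    ∃ g ∈ commutator (OG Q), g * t * g⁻¹ = s := by
  obtain ⟨g, hg⟩ := isConj_iff.1 hts
  by_cases hg' : g ∈ commutator (OG Q)
  · exact ⟨g, hg', hg⟩
  · obtain ⟨v, h1, h2⟩ := exists_refl_commute hQ hs h
    refine ⟨_, (refl_mul_mem_iff hQ hR h1 g).2 hg', ?_⟩
    rw [show refl Q v * g * t * (refl Q v * g)⁻¹ = refl Q v * (g * t * g⁻¹) * (refl Q v)⁻¹ by group,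
      hg, h2, mul_inv_cancel_right]

theorem mem_commutator_iff_lag (h24 : Nat.card F ≠ 2 ∨ finrank F V ≠ 4) {t s g : OG Q}
    (h1 : TypeA (ofQuad Q) t.1) (h2 : 2 * finrank F (mov t.1) = finrank F V)
    (hg : g * t * g⁻¹ = s) : g ∈ commutator (OG Q) ↔
      Even (finrank F (mov t.1) - finrank F ↥(mov t.1 ⊓ mov s.1)) := by
  rw [mem_commutator_iff_of_charTwo hQ h24 CharTwo.two_eq_zero,
    dickson_eq_one_iff_lag hQ h24 ⟨(typeA_quad t).1 h1, h2⟩,
    ← map_mov (h := g.1) (g := t.1) (g' := s.1)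
      (congrArg Subtype.val (mul_inv_eq_iff_eq_mul.1 hg))]

theorem mem_commutator_of_commute (h24 : Nat.card F ≠ 2 ∨ finrank F V ≠ 4) {t g : OG Q}
    (h1 : TypeA (ofQuad Q) t.1) (h2 : 2 * finrank F (mov t.1) = finrank F V)
    (hg : g * t * g⁻¹ = t) : g ∈ commutator (OG Q) := by
  rw [mem_commutator_iff_lag hQ h24 h1 h2 hg, inf_idem, Nat.sub_self]; exact Even.zero

theorem card_classes_commutator (hR : reflSubgroup Q = ⊤) {m k : ℕ} (hd : finrank F V = 2 * m)
    (hm1 : 1 ≤ m)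
    (hk : ∀ U : Submodule F V, (∀ w ∈ U, Q w = 0) → finrank F U ≤ k) {M : Submodule F V}
    (hM : ∀ w ∈ M, Q w = 0) (hMk : finrank F M = k) (hm : m ≤ k + 1)
    (hS : ∀ t g : OG Q, TypeA (ofQuad Q) t.1 → 2 * finrank F (mov t.1) = finrank F V →
      g * t * g⁻¹ = t → g ∈ commutator (OG Q)) :
    Nat.card {C : ConjClasses (commutator (OG Q)) // ∃ g, ConjClasses.mk g = C ∧ orderOf g = 2}
      = m / 2 + k / 2 + Nat.card {i : Fin (k / 2) // 2 * (i + 1 : ℕ) = m} := by
  choose b hb1 hb2 hb3 using fun i : Fin (m / 2) =>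
    exists_not_typeA_OG hQ hd hM (by omega) (s := 2 * (i + 1)) (by omega) (by omega)
  choose a ha1 ha2 ha3 using fun i : Fin (k / 2) =>
    exists_typeA_OG hQ hM (s := i + 1) (by omega)
  have hb4 : ∀ i, b i ∈ commutator (OG Q) := fun i =>
    (mem_commutator_iff_even hQ hR _).2 (by rw [hb2]; simp)
  have ha4 : ∀ i, a i ∈ commutator (OG Q) := fun i =>
    (mem_commutator_iff_even hQ hR _).2 (by rw [ha2]; simp)
  obtain ⟨v, hv, -⟩ := exists_nonsingular_perp hQ (W := ⊥) (by simp; omega)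
  let r : Fin (m / 2) ⊕ Fin (k / 2) ⊕ {i : Fin (k / 2) // 2 * (i + 1 : ℕ) = m} →
      commutator (OG Q) := Sum.elim (fun i => ⟨b i, hb4 i⟩) (Sum.elim (fun i => ⟨a i, ha4 i⟩)
        fun i => ⟨refl Q v * a i * (refl Q v)⁻¹, Subgroup.Normal.conj_mem inferInstance _ (ha4 i) _⟩)
  let r' : Fin (m / 2) ⊕ Fin (k / 2) ⊕ {i : Fin (k / 2) // 2 * (i + 1 : ℕ) = m} → OG Q :=
    Sum.elim b (Sum.elim a fun i => a i)
  have hr : ∀ i, IsConj (r' i) (r i) := by
    rintro (i | i | i)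
    exacts [IsConj.refl _, IsConj.refl _, isConj_iff.2 ⟨_, rfl⟩]
  have key : ∀ i j, IsConj (r i) (r j) → IsConj (r' i) (r' j) := fun i j h =>
    ((hr i).trans ((commutator (OG Q)).subtype.map_isConj h)).trans (hr j).symm
  have key2 : ∀ (i : Fin (k / 2)) (j : {i : Fin (k / 2) // 2 * (i + 1 : ℕ) = m}),
      ¬ IsConj (r (.inr (.inl i))) (r (.inr (.inr j))) := fun i j h => by
    have h1 := ((isConj_OG_iff hQ (ha1 i) (ha1 j)).1 (key _ _ h)).1
    rw [ha2, ha2] at h1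
    obtain rfl : i = j := Fin.ext (by omega)
    obtain ⟨g, hg, h2⟩ := isConj_subgroup_iff.1 h
    have h3 : g * a j * g⁻¹ = refl Q v * a j * (refl Q v)⁻¹ := h2
    refine (refl_mul_mem_iff hQ hR hv g).1 (hS (a j) _ (ha3 _) (by rw [ha2, hd, j.2]) ?_) hg
    rw [show refl Q v * g * a j * (refl Q v * g)⁻¹ = refl Q v * (g * a j * g⁻¹) * (refl Q v)⁻¹ by
      group, h3, refl_inv, ← mul_assoc, ← mul_assoc, refl_mul_self, one_mul, mul_assoc,
      refl_mul_self, mul_one]
  rw [card_classes_of_reps _ r]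
  · simp [add_assoc]
  · intro i
    rw [← Subgroup.orderOf_coe, ← SemiconjBy.orderOf_eq _ (hr i).choose_spec]
    rcases i with i | i | i
    · exact orderOf_eq_two_iff.2 ⟨hb1 i, (ne_one_iff_finrank_mov _).2 (by
        rw [show r' (.inl i) = b i from rfl, hb2]; omega)⟩
    · exact orderOf_eq_two_iff.2 ⟨ha1 i, (ne_one_iff_finrank_mov _).2 (by
        rw [show r' (.inr (.inl i)) = a i from rfl, ha2]; omega)⟩
    · exact orderOf_eq_two_iff.2 ⟨ha1 i, (ne_one_iff_finrank_mov _).2 (by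
        rw [show r' (.inr (.inr i)) = a i from rfl, ha2]; omega)⟩
  · rintro (i | i | i) (j | j | j) h
    · have := ((isConj_OG_iff hQ (hb1 i) (hb1 j)).1 (key _ _ h)).1
      rw [hb2, hb2] at this
      exact congrArg _ (Fin.ext (by omega))
    · exact absurd (((isConj_OG_iff hQ (hb1 i) (ha1 j)).1 (key _ _ h)).2.2 (ha3 j)) (hb3 i)
    · exact absurd (((isConj_OG_iff hQ (hb1 i) (ha1 j)).1 (key _ _ h)).2.2 (ha3 j)) (hb3 i)
    · exact absurd (((isConj_OG_iff hQ (ha1 i) (hb1 j)).1 (key _ _ h)).2.1 (ha3 i)) (hb3 j)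
    · have := ((isConj_OG_iff hQ (ha1 i) (ha1 j)).1 (key _ _ h)).1
      rw [ha2, ha2] at this
      exact congrArg _ (congrArg _ (Fin.ext (by omega)))
    · exact absurd h (key2 i j)
    · exact absurd (((isConj_OG_iff hQ (ha1 i) (hb1 j)).1 (key _ _ h)).2.1 (ha3 i)) (hb3 j)
    · exact absurd h.symm (key2 j i)
    · exact congrArg _ (congrArg _ (Subtype.ext (Fin.ext (by have := i.2; have := j.2; omega))))
  · intro g hg
    obtain ⟨h1, h2⟩ := orderOf_eq_two_iff.1 ((Subgroup.orderOf_coe g).trans hg)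
    have h3 := (ne_one_iff_finrank_mov _).1 h2
    obtain ⟨n, hn⟩ := (mem_commutator_iff_even hQ hR _).1 g.2
    by_cases h : TypeA (ofQuad Q) g.1.1
    · have h4 := hk _ ((typeA_quad _).1 h)
      let i : Fin (k / 2) := ⟨n - 1, by omega⟩
      have h5 : IsConj g.1 (a i) := (isConj_OG_iff hQ h1 (ha1 _)).2
        ⟨by rw [ha2]; simp only [i]; omega, iff_of_true h (ha3 _)⟩
      by_cases hi : 2 * (i + 1 : ℕ) = m
      · obtain ⟨x, hx⟩ := isConj_iff.1 h5
        by_cases hx' : x ∈ commutator (OG Q)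
        · exact ⟨.inr (.inl i), isConj_subgroup_iff.2 ⟨x, hx', hx⟩⟩
        · refine ⟨.inr (.inr ⟨i, hi⟩), isConj_subgroup_iff.2
            ⟨_, (refl_mul_mem_iff hQ hR hv x).2 hx', ?_⟩⟩
          change _ = refl Q v * a i * (refl Q v)⁻¹
          rw [← hx]; group
      · exact ⟨.inr (.inl i), isConj_subgroup_iff.2 (exists_conj_commutator hQ hR (s := a i) (ha1 i)
          (fun h6 => hi (by have := h6.2; rw [ha2, hd] at this; omega)) h5)⟩
    · have := two_mul_finrank_mov_le (ofQuad_nondeg Q hQ) (isIso_OG g.1) (congrArg Subtype.val h1)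
      let i : Fin (m / 2) := ⟨n - 1, by omega⟩
      exact ⟨.inl i, isConj_subgroup_iff.2 (exists_conj_commutator hQ hR (hb1 i)
        (fun h6 => hb3 i h6.1) ((isConj_OG_iff hQ h1 (hb1 _)).2
          ⟨by rw [hb2]; simp only [i]; omega, iff_of_false h (hb3 _)⟩))⟩

/-! ### Centralisers -/

omit [Finite F] [CharP F 2] in
theorem card_centralizer_OG (t : OG Q) : Nat.card (Subgroup.centralizer ({t} : Set (OG Q)))
    = Nat.card (formIsom (wall (ofQuad Q) t.1)) *
      Nat.card ↥((ofQuad Q).isom ⊓ linFix (mov t.1)) := by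
  rw [← card_centralizer_congr (oE Q), card_centralizer (ofQuad_nondeg Q hQ)]; rfl

theorem card_commutator_inf_mul_two (hR : reflSubgroup Q = ⊤) {t : OG Q} (ht : t * t = 1)
    (h : ¬ (TypeA (ofQuad Q) t.1 ∧ 2 * finrank F (mov t.1) = finrank F V)) :
    Nat.card ↥(commutator (OG Q) ⊓ Subgroup.centralizer ({t} : Set (OG Q))) * 2
      = Nat.card (Subgroup.centralizer ({t} : Set (OG Q))) := by
  obtain ⟨v, h1, h2⟩ := exists_refl_commute hQ ht h
  exact card_inf_mul_two (Subgroup.mem_centralizer_singleton_iff.2 h2) (refl_not_mem hQ hR h1)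
    fun b => by rw [refl_mul_mem_iff hQ hR h1]; exact em' _

theorem card_commutator_inf_of_lag (h24 : Nat.card F ≠ 2 ∨ finrank F V ≠ 4) {t : OG Q}
    (h1 : TypeA (ofQuad Q) t.1) (h2 : 2 * finrank F (mov t.1) = finrank F V) :
    Nat.card ↥(commutator (OG Q) ⊓ Subgroup.centralizer ({t} : Set (OG Q)))
      = Nat.card (Subgroup.centralizer ({t} : Set (OG Q))) := by
  rw [inf_eq_right.2 fun g hg => mem_commutator_of_commute hQ h24 h1 h2
    (mul_inv_eq_iff_eq_mul.2 (Subgroup.mem_centralizer_singleton_iff.1 hg))]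

omit [CharP F 2] in
theorem card_fix_of_lag {U : Submodule F V} (hU : ∀ w ∈ U, Q w = 0) {s : ℕ} (hs : finrank F U = s)
    (hd : finrank F V = 2 * s) :
    Nat.card ↥((ofQuad Q).isom ⊓ linFix U) = Nat.card F ^ s.choose 2 := by
  obtain ⟨W, -, -, h3, h4⟩ := (OrthE.ts_iff.2 hU).card_fix (ofQuad_nondeg Q hQ) hs (d := 0) hd
  have : Subsingleton W := Module.finrank_zero_iff.1 h3
  rw [h4, show Nat.card (ofQuad Q).Λ = 1 from AddSubgroup.card_bot,
    show Nat.card ((ofQuad Q).restrict W).isom = 1 from Nat.card_unique]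
  simp

omit [CharP F 2] in
theorem card_fix_of_ts {M U : Submodule F V} (hM : ∀ w ∈ M, Q w = 0) (hU : ∀ w ∈ U, Q w = 0)
    {s j : ℕ} (hs : finrank F U = s) (hm : finrank F M = s + (j + 1))
    (hd : finrank F V = 2 * (s + (j + 1))) :
    Nat.card ↥((ofQuad Q).isom ⊓ linFix U) = Nat.card F ^ (s * (2 * (j + 1)) + s.choose 2) *
      (2 * Nat.card F ^ ((j + 1) * j) * (Nat.card F ^ (j + 1) - 1) *
        ∏ i ∈ Finset.range j, (Nat.card F ^ (2 * (i + 1)) - 1)) := by
  obtain ⟨W, h1, h2, h3, h4⟩ := (OrthE.ts_iff.2 hU).card_fix (ofQuad_nondeg Q hQ) hs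
    (d := 2 * (j + 1)) (by omega)
  obtain ⟨M', h5, h6⟩ := exists_ts_of_perp hQ hM hU h1 h2 hs h3 hm hd
  rw [h4, show Nat.card (ofQuad Q).Λ = 1 from AddSubgroup.card_bot, OrthE.restrict_isom_eq,
    OrthE.card_O_of_plus (OrthE.nondeg_comp_of_disjoint h1) h3 h5 h6, one_pow, mul_one]

theorem card_fix_of_not_ts {M U : Submodule F V} (hM : ∀ w ∈ M, Q w = 0)
    (hU : U ≤ (ofQuad Q).perp U) (hU' : ¬ ∀ w ∈ U, Q w = 0) {k j : ℕ} (hs : finrank F U = k + 1)
    (hm : finrank F M = k + (j + 1)) (hd : finrank F V = 2 * (k + (j + 1))) :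
    Nat.card ↥((ofQuad Q).isom ⊓ linFix U)
      = Nat.card F ^ (k * (2 * j + 1) + k.choose 2) * (2 * spOrd (Nat.card F) j) := by
  push Not at hU'
  obtain ⟨v, hv, hv'⟩ := hU'
  obtain ⟨U0, h1, rfl, h3⟩ := exists_decomp hU hv hv'
  have hP := ofQuad_nondeg Q hQ
  obtain ⟨e, -, rfl, he, -, hee, -, -⟩ := (OrthE.ts_iff.2 h1).exists_hyperbolic hP
    (k := k) (by omega)
  have hev : ∀ i, ∀ h ∈ Submodule.span F {v}, (ofQuad Q).B (e i) h = 0 := fun i h hh =>
    hU (Submodule.mem_sup_right hh) _ (Submodule.mem_sup_left (Submodule.subset_span ⟨i, rfl⟩))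
  obtain ⟨f, hf, hff, hfe, hfv⟩ := (ofQuad Q).exists_hyperbolic_family hP e
    (linearIndependent_iff_card_eq_finrank_span.2 (by simp [Set.finrank]; omega))
    (OrthE.ts_iff.2 h1) (Submodule.span F {v})
    ((Submodule.disjoint_span_singleton' (by rintro rfl; simp at hv')).2 fun h => hv' (h1 v h)) hev
  have hv0 : v ≠ 0 := by rintro rfl; simp at hv'
  have h4 := (ofQuad Q).card_fix_hyperbolic hP k _ e f he hf hee hff hfe hev hfv (d := 2 * j + 1)
    (by rw [finrank_span_singleton hv0]; omega)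
  have h5 := (ofQuad Q).disjoint_perp_hyperbolic e f hee hff hfe
  have h6 := (ofQuad Q).finrank_perp hP (Submodule.span F (Set.range (Sum.elim e f)))
  rw [(ofQuad Q).finrank_span_hyperbolic e f hee hff hfe] at h6
  set H := Submodule.span F (Set.range (Sum.elim e f)) with hH
  have hvH : v ∈ (ofQuad Q).perp H := (ofQuad Q).mem_perp_span.2 (by
    rintro _ ⟨i | i, rfl⟩
    exacts [hev i v (Submodule.mem_span_singleton_self v),
      hfv i v (Submodule.mem_span_singleton_self v)])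
  have hW := (ofQuad Q).disjoint_perp_perp hP h5
  obtain ⟨M', h7, h8⟩ := exists_ts_of_perp hQ hM h1 hW (by
    rw [(ofQuad Q).perp_perp hP]
    exact Submodule.span_mono (by rintro _ ⟨i, rfl⟩; exact ⟨.inl i, rfl⟩)) (k := k) (j := j + 1)
    (by omega) (by omega) hm hd
  have h9 := card_fix_eq_mul hP H (v := v) fun h => hv0 (h5.le_bot ⟨h, hvH⟩)
  have h10 : Nat.card {x // x ∉ H ∧ (∀ h ∈ H, (ofQuad Q).B h x = (ofQuad Q).B h v) ∧
      (ofQuad Q).N x - (ofQuad Q).N v ∈ (ofQuad Q).Λ}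
      = Nat.card {x // Q.comp ((ofQuad Q).perp H).subtype x = Q v} :=
    Nat.card_congr ⟨fun x => ⟨⟨x.1, fun h hh => (x.2.2.1 h hh).trans (hvH h hh)⟩,
      sub_eq_zero.1 x.2.2.2⟩, fun x => ⟨x.1.1, fun h => hv' (by
        have : x.1.1 = 0 := h5.le_bot ⟨h, x.1.2⟩
        rw [← x.2, QuadraticMap.comp_apply, Submodule.subtype_apply, this, map_zero]),
        fun h hh => (x.1.2 h hh).trans (hvH h hh).symm, sub_eq_zero.2 x.2⟩,
      fun _ => rfl, fun _ => rfl⟩
  rw [Nat.card_congr ((ofQuad Q).fixEquiv hP h5).toEquiv, OrthE.restrict_isom_eq,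
    OrthE.card_O_of_plus (OrthE.nondeg_comp_of_disjoint hW) (k := j) (by omega) h7 h8, h10,
    OrthE.card_level_of_plus (OrthE.nondeg_comp_of_disjoint hW) (k := j) (by omega) h7 h8 hv',
    sup_comm] at h9
  rw [sup_comm, h4, show Nat.card (ofQuad Q).Λ = 1 from AddSubgroup.card_bot, one_pow, mul_one]
  congr 1
  have hq : 1 < Nat.card F := Finite.one_lt_card
  have : 0 < Nat.card F ^ j * (Nat.card F ^ (j + 1) - 1) :=
    Nat.mul_pos (by positivity) (Nat.sub_pos_of_lt (Nat.one_lt_pow (by omega) hq))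
  refine Nat.eq_of_mul_eq_mul_left this ?_
  rw [← h9, spOrd]
  ring

end CfsgLib.Inv2
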