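import Mathlib
import Cfsg.Agent.Lib.Inv2.Orth

/-!
# Involutions of matrix orthogonal groups in characteristic two
-/

set_option autoImplicit false

namespace CfsgLib.Inv2

open Module QuadraticMap CfsgLib.Forms CfsgLib.Orth Matrix

variable {F : Type*} [Field F] {ι : Type} [Fintype ι] [DecidableEq ι]
  {Q : QuadraticForm F (ι → F)}

theorem toOG_finrank_mov (t : Cfsg.isometryGroup F ⇑Q) :
    finrank F (mov (toOG Q t).1) = (((t : GL ι F) : Matrix ι ι F) - 1).rank :=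
  finrank_mov_eq_rank (toOG_apply Q t)

theorem toOG_mov (t : Cfsg.isometryGroup F ⇑Q) :
    mov (toOG Q t).1 = LinearMap.range (Matrix.toLin' (((t : GL ι F) : Matrix ι ι F) - 1)) :=
  mov_eq_range (toOG_apply Q t)

theorem toOG_mul_self {t : Cfsg.isometryGroup F ⇑Q} (ht : t ^ 2 = 1) :
    toOG Q t * toOG Q t = 1 := by rw [← map_mul, ← pow_two, ht, map_one]

theorem toOG_mul_self' {t : Cfsg.isometryGroup F ⇑Q} (ht : orderOf t = 2) :
    toOG Q t * toOG Q t = 1 := toOG_mul_self (ht ▸ pow_orderOf_eq_one t)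

theorem exists_Omega_conj_iff (t s : Cfsg.isometryGroup F ⇑Q) :
    (∃ g ∈ Cfsg.Omega F ⇑Q, g * t * g⁻¹ = s) ↔
      ∃ g ∈ commutator (OG Q), g * toOG Q t * g⁻¹ = toOG Q s := by
  constructor
  · rintro ⟨g, hg, rfl⟩
    exact ⟨toOG Q g, (mem_Omega_iff Q g).1 hg, by simp⟩
  · rintro ⟨g, hg, h⟩
    obtain ⟨g, rfl⟩ := (toOG Q).surjective g
    exact ⟨g, (mem_Omega_iff Q g).2 hg, (toOG Q).injective (by simpa using h)⟩

theorem finrank_plus (m : ℕ) : finrank F (Fin m ⊕ Fin m → F) = 2 * m := by simp [two_mul]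

theorem finrank_minus (m : ℕ) : finrank F ((Fin m ⊕ Fin m) ⊕ Fin 2 → F) = 2 * (m + 1) := by
  simp; ring

theorem exists_ts_plus (m : ℕ) :
    ∃ M : Submodule F (Fin m ⊕ Fin m → F), (∀ w ∈ M, qPlus m F w = 0) ∧ finrank F M = m := by
  obtain ⟨M, h1, h2⟩ := OrthE.exists_ts_qPlus (F := F) m
  exact ⟨M, fun w hw => (OrthE.qPlus_eq m w).trans (h1 w hw), h2⟩

theorem exists_ts_minus (m : ℕ) (a b : F) :
    ∃ M : Submodule F ((Fin m ⊕ Fin m) ⊕ Fin 2 → F),
      (∀ w ∈ M, qMinus m a b w = 0) ∧ finrank F M = m := by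
  obtain ⟨M, h1, h2⟩ := OrthE.exists_ts_qMinus (F := F) m a b
  exact ⟨M, fun w hw => (OrthE.qMinus_eq m a b w).trans (h1 w hw), h2⟩

theorem finrank_le_plus {m : ℕ} (M : Submodule F (Fin m ⊕ Fin m → F))
    (hM : ∀ w ∈ M, qPlus m F w = 0) : finrank F M ≤ m := by
  have := (OrthE.ts_iff.2 hM).two_mul_finrank_le (ofQuad_nondeg _ (qPlus_nondegenerate m))
  rw [finrank_plus] at this
  omega

theorem finrank_le_minus [Finite F] {m : ℕ} {a b : F}
    (hab : ∀ z₁ z₂ : F, z₁ ^ 2 + a * z₁ * z₂ + b * z₂ ^ 2 = 0 → z₁ = 0 ∧ z₂ = 0)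
    (M : Submodule F ((Fin m ⊕ Fin m) ⊕ Fin 2 → F)) (hM : ∀ w ∈ M, qMinus m a b w = 0) :
    finrank F M ≤ m :=
  OrthE.finrank_le_of_ts_qMinus hab fun w hw => (OrthE.qMinus_eq m a b w).symm.trans (hM w hw)

theorem reflSubgroup_minus [Finite F] (m : ℕ) {a b : F}
    (hab : ∀ z₁ z₂ : F, z₁ ^ 2 + a * z₁ * z₂ + b * z₂ ^ 2 = 0 → z₁ = 0 ∧ z₂ = 0) :
    reflSubgroup (qMinus m a b) = ⊤ := by
  by_cases h : m = 1
  · exact reflSubgroup_eq_top_of_index_le_one (qMinus_nondegenerate m hab)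
      fun M hM => h ▸ finrank_le_minus hab M hM
  · exact reflSubgroup_eq_top (qMinus_nondegenerate m hab) (Or.inr (by rw [finrank_minus]; omega))

variable [CharP F 2]

theorem toOG_typeA_iff (t : Cfsg.isometryGroup F ⇑Q) :
    TypeA (ofQuad Q) (toOG Q t).1 ↔ ∀ v, Q ((((t : GL ι F) : Matrix ι ι F) - 1) *ᵥ v) = 0 := by
  rw [typeA_quad, toOG_mov]
  exact ⟨fun h v => h _ ⟨v, rfl⟩, fun h _ ⟨v, hv⟩ => hv ▸ h v⟩

theorem toOG_typeA_iff' (t : Cfsg.isometryGroup F ⇑Q) :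
    TypeA (ofQuad Q) (toOG Q t).1 ↔ ∀ v, Q (v + ((t : GL ι F) : Matrix ι ι F) *ᵥ v) = 0 := by
  rw [toOG_typeA_iff]
  exact forall_congr' fun v => by rw [sub_mulVec, one_mulVec, sub_eq_add' F, add_comm]

variable [Finite F]

theorem mat_isConj_iff_sp (hQ : (polarBilin Q).Nondegenerate) {t s : Cfsg.isometryGroup F ⇑Q}
    (ht : orderOf t = 2) (hs : orderOf s = 2) :
    IsConj t s ↔ ∃ g ∈ Cfsg.preserving (Units.coeHom (Matrix ι ι F))
      (fun u v => Q (u + v) - Q u - Q v), g * (t : GL ι F) * g⁻¹ = (s : GL ι F) := by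
  rw [← isConj_equiv_iff (toOG Q), isConj_OG_iff_sp hQ (toOG_mul_self' ht) (toOG_mul_self' hs)]
  constructor
  · rintro ⟨g, hg, h⟩
    obtain ⟨g, rfl⟩ := (Orth.glEquiv ι F).surjective g
    exact ⟨g, hg, (Orth.glEquiv ι F).injective (by rw [map_mul, map_mul, map_inv]; exact h)⟩
  · rintro ⟨g, hg, h⟩
    refine ⟨Orth.glEquiv ι F g, hg, ?_⟩
    have := congrArg (Orth.glEquiv ι F) h
    rwa [map_mul, map_mul, map_inv] at this

omit [Finite F] in
theorem toOG_rank_le (hQ : (polarBilin Q).Nondegenerate) {t : Cfsg.isometryGroup F ⇑Q}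
    (ht : t ^ 2 = 1) : 2 * (((t : GL ι F) : Matrix ι ι F) - 1).rank ≤ finrank F (ι → F) := by
  rw [← toOG_finrank_mov]
  exact two_mul_finrank_mov_le (ofQuad_nondeg Q hQ) (isIso_OG _)
    (congrArg Subtype.val (toOG_mul_self ht))

/-- The centraliser in `Ω⁺` of an involution not of type `a`. -/
theorem card_plus_not_typeA {m : ℕ} (h24 : Nat.card F ≠ 2 ∨ finrank F (Fin m ⊕ Fin m → F) ≠ 4)
    {t : OG (qPlus m F)} (ht : t * t = 1) (h : ¬ TypeA (ofQuad (qPlus m F)) t.1) {k j : ℕ}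
    (hk : finrank F (mov t.1) = k + 1) (hm : m = k + (j + 1)) :
    Nat.card ↥(commutator (OG (qPlus m F)) ⊓ Subgroup.centralizer ({t} : Set (OG (qPlus m F))))
      = Nat.card (formIsom (wall (ofQuad (qPlus m F)) t.1)) *
        (Nat.card F ^ (k * (2 * j + 1) + k.choose 2) * spOrd (Nat.card F) j) := by
  have hQ := qPlus_nondegenerate (F := F) m
  obtain ⟨M, h1, h2⟩ := exists_ts_plus (F := F) m
  have h3 := card_commutator_inf_mul_two hQ (reflSubgroup_eq_top hQ h24) ht fun h' => h h'.1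
  rw [card_centralizer_OG hQ, card_fix_of_not_ts hQ h1
    (fun u hu w hw => B_mov_eq_zero (isIso_OG t) (congrArg Subtype.val ht) hw hu)
    (by rwa [← typeA_quad]) hk (h2.trans hm) (by rw [finrank_plus, hm])] at h3
  refine Nat.eq_of_mul_eq_mul_right two_pos (h3.trans ?_)
  ring

end CfsgLib.Inv2
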